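import Mathlib

namespace Cfsg.Agent.Helper17

open Module
open scoped commutatorElement

universe u v w

section semisimple

variable {K : Type u} [Field K]

/-- restriction of a hom into `End V` to an invariant subspace -/
def ldRestr {V : Type w} [AddCommGroup V] [Module K V] {P : Type v} [Group P]
    (ρ : P →* Module.End K V) (W : Submodule K V) (hW : ∀ g : P, ∀ w ∈ W, ρ g w ∈ W) :
    P →* Module.End K W where
  toFun g := (ρ g).restrict (hW g)
  map_one' := by
    ext w
    simp [LinearMap.restrict_apply]
  map_mul' a b := by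
    ext w
    simp [LinearMap.restrict_apply, Module.End.mul_apply]

theorem ldRestr_apply {V : Type w} [AddCommGroup V] [Module K V] {P : Type v} [Group P]
    (ρ : P →* Module.End K V) (W : Submodule K V) (hW : ∀ g : P, ∀ w ∈ W, ρ g w ∈ W)
    (g : P) (w : W) : ((ldRestr ρ W hW g) w : V) = ρ g (w : V) := rfl

theorem ldRestr_ker {V : Type w} [AddCommGroup V] [Module K V] {P : Type v} [Group P]
    (ρ : P →* Module.End K V) (W : Submodule K V) (hW : ∀ g : P, ∀ w ∈ W, ρ g w ∈ W)
    (g : P) (hg : g ∈ (ldRestr ρ W hW).ker) (w : V) (hw : w ∈ W) : ρ g w = w := by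
  rw [MonoidHom.mem_ker] at hg
  have h := ldRestr_apply ρ W hW g ⟨w, hw⟩
  rw [hg] at h
  exact h.symm

theorem ld_eq_one_of_iSup {V : Type w} [AddCommGroup V] [Module K V] {ι : Sort*}
    (W : ι → Submodule K V) (hW : ⨆ i, W i = ⊤) (f : Module.End K V)
    (hf : ∀ i, ∀ w ∈ W i, f w = w) : f = 1 := by
  have h : (⊤ : Submodule K V) ≤ LinearMap.eqLocus f LinearMap.id := by
    rw [← hW]
    exact iSup_le fun i w hw => by
      rw [LinearMap.mem_eqLocus]
      simpa using hf i w hw
  ext v
  have h1 := h (Submodule.mem_top : v ∈ (⊤ : Submodule K V))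
  rw [LinearMap.mem_eqLocus] at h1
  simpa using h1

theorem ld_derived_succ_le {G : Type*} [Group G] (N : Subgroup G) (h : derivedSeries G 1 ≤ N)
    (k : ℕ) : derivedSeries G (k + 1) ≤ (derivedSeries N k).map N.subtype := by
  induction k with
  | zero =>
    rw [derivedSeries_zero, ← MonoidHom.range_eq_map, Subgroup.range_subtype]
    exact h
  | succ k ih =>
    rw [derivedSeries_succ, derivedSeries_succ N, Subgroup.map_commutator]
    exact Subgroup.commutator_mono ih ih

theorem ld_isSemisimple (p : ℕ) [Fact p.Prime] (hpK : (p : K) ≠ 0)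
    {V : Type w} [AddCommGroup V] [Module K V] {P : Type v} [Group P] (hP : IsPGroup p P)
    (ρ : P →* Module.End K V) (x : P) : (ρ x).IsSemisimple := by
  obtain ⟨k, hk⟩ := hP x
  have h1 : (ρ x) ^ (p ^ k) = 1 := by rw [← map_pow, hk, map_one]
  have hsep : (Polynomial.X ^ (p ^ k) - Polynomial.C (1 : K)).Separable :=
    Polynomial.separable_X_pow_sub_C 1 (by rw [Nat.cast_pow]; exact pow_ne_zero _ hpK) one_ne_zero
  apply Module.End.isSemisimple_of_squarefree_aeval_eq_zero hsep.squarefree
  simp [h1]

theorem ld_semisimple_step (p : ℕ) [Fact p.Prime] [IsAlgClosed K] (hpK : (p : K) ≠ 0) (d : ℕ)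
    (ih : ∀ m < d, ∀ (V : Type w) [AddCommGroup V] [Module K V] [FiniteDimensional K V],
      finrank K V = m → ∀ (P : Type v) [Group P] [Finite P], IsPGroup p P →
      ∀ ρ : P →* Module.End K V, derivedSeries P (Nat.log 2 m + 1) ≤ ρ.ker)
    (V : Type w) [AddCommGroup V] [Module K V] [FiniteDimensional K V] (hd : finrank K V = d)
    (Q : Type v) [Group Q] [Finite Q] (hQ : IsPGroup p Q) (ρ : Q →* Module.End K V)
    (hρ : Function.Injective ρ) : derivedSeries Q (Nat.log 2 d + 1) = ⊥ := by
  by_cases hcomm : ∀ x y : Q, x * y = y * x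
  · have h1 : derivedSeries Q 1 = ⊥ := by
      rw [derivedSeries_one, eq_bot_iff, commutator_def, Subgroup.commutator_le]
      intro x _ y _
      rw [Subgroup.mem_bot, commutatorElement_def, hcomm x y, mul_inv_cancel_right, mul_inv_cancel]
    exact le_bot_iff.mp (h1 ▸ derivedSeries_antitone Q (Nat.succ_le_succ (Nat.zero_le _)))
  · push Not at hcomm
    obtain ⟨x₀, y₀, hxy⟩ := hcomm
    have hZtop : Subgroup.center Q ≠ ⊤ := by
      intro h
      have h1 : y₀ ∈ Subgroup.center Q := h ▸ Subgroup.mem_top y₀
      exact hxy (Subgroup.mem_center_iff.mp h1 x₀)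
    obtain ⟨a, haZ, hac⟩ : ∃ a : Q, a ∉ Subgroup.center Q ∧
        ∀ g : Q, g * a * g⁻¹ * a⁻¹ ∈ Subgroup.center Q := by
      haveI : Nontrivial (Q ⧸ Subgroup.center Q) := by
        by_contra h
        rw [not_nontrivial_iff_subsingleton] at h
        exact hZtop (QuotientGroup.subgroup_eq_top_of_subsingleton _ h)
      haveI := IsPGroup.center_nontrivial (hQ.to_quotient (Subgroup.center Q))
      obtain ⟨⟨abar, habar⟩, hne⟩ := exists_ne (1 : Subgroup.center (Q ⧸ Subgroup.center Q))
      obtain ⟨a, rfl⟩ := QuotientGroup.mk_surjective abar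
      refine ⟨a, ?_, ?_⟩
      · intro ha
        apply hne
        apply Subtype.ext
        exact (QuotientGroup.eq_one_iff a).mpr ha
      · intro g
        rw [← QuotientGroup.eq_one_iff]
        have h1 := Subgroup.mem_center_iff.mp habar (g : Q ⧸ Subgroup.center Q)
        simp only [QuotientGroup.mk_mul, QuotientGroup.mk_inv]
        rw [h1, mul_inv_cancel_right, mul_inv_cancel]
    have hss : ∀ x : Q, (ρ x).IsSemisimple := ld_isSemisimple p hpK hQ ρ
    have hinv : ∀ (g : Q) (t : V), ρ g⁻¹ (ρ g t) = t := by
      intro g t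
      rw [← Module.End.mul_apply, ← map_mul, inv_mul_cancel, map_one]
      rfl
    by_cases hsc : ∀ z ∈ Subgroup.center Q, ∃ c : K, ∀ t : V, ρ z t = c • t
    · -- every central element acts as a scalar
      let ψ : Q →* Subgroup.center Q :=
        { toFun := fun g => ⟨g * a * g⁻¹ * a⁻¹, hac g⟩
          map_one' := by
            apply Subtype.ext
            simp
          map_mul' := by
            intro g h
            apply Subtype.ext
            have ht := Subgroup.mem_center_iff.mp (hac h)
            show g * h * a * (g * h)⁻¹ * a⁻¹ = g * a * g⁻¹ * a⁻¹ * (h * a * h⁻¹ * a⁻¹)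
            calc g * h * a * (g * h)⁻¹ * a⁻¹
                = g * (h * a * h⁻¹ * a⁻¹) * (a * g⁻¹ * a⁻¹) := by group
              _ = (h * a * h⁻¹ * a⁻¹) * g * (a * g⁻¹ * a⁻¹) := by rw [ht g]
              _ = (h * a * h⁻¹ * a⁻¹) * (g * a * g⁻¹ * a⁻¹) := by group
              _ = g * a * g⁻¹ * a⁻¹ * (h * a * h⁻¹ * a⁻¹) := (ht _).symm }
      have hQN : derivedSeries Q 1 ≤ Subgroup.centralizer {a} := by
        rw [derivedSeries_one, commutator_def, Subgroup.commutator_le]
        intro g _ h _
        rw [Subgroup.mem_centralizer_singleton_iff]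
        have hcm : ψ g * ψ h = ψ h * ψ g :=
          Subtype.ext (Subgroup.mem_center_iff.mp (ψ h).2 (ψ g : Q))
        have h1 : ψ ⁅g, h⁆ = 1 := by
          rw [commutatorElement_def, map_mul, map_mul, map_mul, map_inv, map_inv,
            hcm, mul_inv_cancel_right, mul_inv_cancel]
        have h2 : ⁅g, h⁆ * a * ⁅g, h⁆⁻¹ * a⁻¹ = 1 := congrArg Subtype.val h1
        have h3 := mul_inv_eq_one.mp h2
        exact mul_inv_eq_iff_eq_mul.mp h3
      have hNinv : ∀ lam : K, ∀ g : (Subgroup.centralizer {a} : Subgroup Q),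
          ∀ t ∈ (ρ a).eigenspace lam,
            (ρ.comp (Subgroup.centralizer {a} : Subgroup Q).subtype) g t ∈ (ρ a).eigenspace lam := by
        intro lam g t ht
        rw [Module.End.mem_eigenspace_iff] at ht ⊢
        have hg := Subgroup.mem_centralizer_singleton_iff.mp g.2
        have hc : ρ a (ρ (g : Q) t) = ρ (g : Q) (ρ a t) := by
          rw [← Module.End.mul_apply, ← Module.End.mul_apply, ← map_mul, ← map_mul, hg]
        show ρ a (ρ (g : Q) t) = lam • ρ (g : Q) t
        rw [hc, ht, map_smul]
      obtain ⟨h₀, hh₀⟩ : ∃ h : Q, h * a ≠ a * h := by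
        by_contra hcon
        push Not at hcon
        exact haZ (Subgroup.mem_center_iff.mpr hcon)
      have hz₁Z : a * h₀ * a⁻¹ * h₀⁻¹ ∈ Subgroup.center Q := by
        have h1 := Subgroup.inv_mem _ (hac h₀)
        have e : (h₀ * a * h₀⁻¹ * a⁻¹)⁻¹ = a * h₀ * a⁻¹ * h₀⁻¹ := by group
        rwa [e] at h1
      have hz₁ne : a * h₀ * a⁻¹ * h₀⁻¹ ≠ 1 := by
        intro h1
        apply hh₀
        have h2 := mul_inv_eq_one.mp h1
        have h3 := mul_inv_eq_iff_eq_mul.mp h2
        exact h3.symm
      obtain ⟨ζ, hζ⟩ := hsc _ hz₁Z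
      have hrel : a * h₀ = (a * h₀ * a⁻¹ * h₀⁻¹) * h₀ * a := by group
      have hζ1 : ζ ≠ 1 := by
        intro h1
        apply hz₁ne
        apply hρ
        rw [map_one]
        ext t
        rw [hζ t, h1, one_smul]
        rfl
      have hmap : ∀ lam : K, ∀ t ∈ (ρ a).eigenspace lam, ρ h₀ t ∈ (ρ a).eigenspace (ζ * lam) := by
        intro lam t ht
        rw [Module.End.mem_eigenspace_iff] at ht ⊢
        have h1 : ρ a (ρ h₀ t) = ρ (a * h₀ * a⁻¹ * h₀⁻¹) (ρ h₀ (ρ a t)) := by
          have e1 : ρ a (ρ h₀ t) = ρ (a * h₀) t := by rw [map_mul]; rfl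
          have e2' : ∀ z' : Q, ρ z' (ρ h₀ (ρ a t)) = ρ (z' * h₀ * a) t := by
            intro z'
            rw [map_mul, map_mul]; rfl
          rw [e1, e2', ← hrel]
        rw [h1, hζ, ht, map_smul, smul_smul]
      have hdim : ∀ lam : K, 2 * finrank K ((ρ a).eigenspace lam) ≤ d := by
        intro lam
        by_cases hbot : (ρ a).eigenspace lam = ⊥
        · rw [hbot, finrank_bot]
          omega
        · have hlam : lam ≠ 0 := by
            intro h0
            apply hbot
            rw [eq_bot_iff]
            intro t ht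
            rw [Module.End.mem_eigenspace_iff, h0, zero_smul] at ht
            rw [Submodule.mem_bot, ← hinv a t, ht, map_zero]
          have hne : lam ≠ ζ * lam := by
            intro h
            apply hζ1
            have h1 : ζ * lam = 1 * lam := by rw [← h, one_mul]
            exact mul_right_cancel₀ hlam h1
          have hdisj : Disjoint ((ρ a).eigenspace lam) ((ρ a).eigenspace (ζ * lam)) :=
            (ρ a).eigenspaces_iSupIndep.pairwiseDisjoint hne
          have hle : finrank K ((ρ a).eigenspace lam) ≤ finrank K ((ρ a).eigenspace (ζ * lam)) := by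
            apply LinearMap.finrank_le_finrank_of_injective (f := (ρ h₀).restrict (hmap lam))
            intro w₁ w₂ h12
            have h12' : ρ h₀ (w₁ : V) = ρ h₀ (w₂ : V) := congrArg Subtype.val h12
            apply Subtype.ext
            rw [← hinv h₀ w₁, h12', hinv h₀ w₂]
          have hsum := Submodule.finrank_sup_add_finrank_inf_eq ((ρ a).eigenspace lam)
            ((ρ a).eigenspace (ζ * lam))
          rw [disjoint_iff.mp hdisj, finrank_bot] at hsum
          have hsle : finrank K ↥((ρ a).eigenspace lam ⊔ (ρ a).eigenspace (ζ * lam)) ≤ finrank K V :=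
            Submodule.finrank_le _
          omega
      have hd2 : 2 ≤ d := by
        by_contra hlt
        have hall : ∀ lam : K, (ρ a).eigenspace lam = ⊥ := by
          intro lam
          have h1 := hdim lam
          have h0 : finrank K ((ρ a).eigenspace lam) = 0 := by omega
          exact Submodule.finrank_eq_zero.mp h0
        have htop := (hss a).iSup_eigenspace_eq_top
        simp only [hall, iSup_bot] at htop
        apply haZ
        have ha1 : a = 1 := by
          apply hρ
          ext t
          have ht : t ∈ (⊥ : Submodule K V) := htop ▸ Submodule.mem_top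
          rw [Submodule.mem_bot] at ht
          rw [ht, map_zero, map_zero]
        rw [ha1]
        exact Subgroup.one_mem _
      have hN : derivedSeries (Subgroup.centralizer {a} : Subgroup Q) (Nat.log 2 d) = ⊥ := by
        rw [eq_bot_iff]
        intro x hx
        have hx1 : ρ (x : Q) = 1 := by
          apply ld_eq_one_of_iSup (fun lam => (ρ a).eigenspace lam) (hss a).iSup_eigenspace_eq_top
          intro lam t ht
          have h2 := hdim lam
          have hlt : finrank K ((ρ a).eigenspace lam) < d := by omega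
          have h1 := ih _ hlt ((ρ a).eigenspace lam) rfl (Subgroup.centralizer {a} : Subgroup Q)
            (hQ.to_subgroup _)
            (ldRestr (ρ.comp (Subgroup.centralizer {a} : Subgroup Q).subtype) _ (hNinv lam))
          have hlog : Nat.log 2 (finrank K ((ρ a).eigenspace lam)) + 1 ≤ Nat.log 2 d := by
            have h3 : Nat.log 2 (finrank K ((ρ a).eigenspace lam)) ≤ Nat.log 2 (d / 2) :=
              Nat.log_mono_right (by omega)
            rw [Nat.log_div_base] at h3
            have h4 : 0 < Nat.log 2 d := Nat.log_pos one_lt_two hd2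
            omega
          exact ldRestr_ker _ _ (hNinv lam) x (h1 (derivedSeries_antitone _ hlog hx)) t ht
        rw [Subgroup.mem_bot]
        apply Subtype.ext
        apply hρ
        rw [hx1]
        simp
      have hfin := ld_derived_succ_le (Subgroup.centralizer {a} : Subgroup Q) hQN (Nat.log 2 d)
      rw [hN, Subgroup.map_bot] at hfin
      exact le_bot_iff.mp hfin
    · push Not at hsc
      obtain ⟨z, hz, hzns⟩ := hsc
      rw [eq_bot_iff]
      intro x hx
      have hinvW : ∀ μ : K, ∀ g : Q, ∀ t ∈ (ρ z).eigenspace μ, ρ g t ∈ (ρ z).eigenspace μ := by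
        intro μ g t ht
        rw [Module.End.mem_eigenspace_iff] at ht ⊢
        have hc : ρ z (ρ g t) = ρ g (ρ z t) := by
          rw [← Module.End.mul_apply, ← Module.End.mul_apply, ← map_mul, ← map_mul,
            Subgroup.mem_center_iff.mp hz g]
        rw [hc, ht, map_smul]
      have hx1 : ρ x = 1 := by
        apply ld_eq_one_of_iSup (fun μ => (ρ z).eigenspace μ) (hss z).iSup_eigenspace_eq_top
        intro μ t ht
        have hlt : finrank K ((ρ z).eigenspace μ) < d := by
          rw [← hd]
          apply Submodule.finrank_lt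
          intro htop
          obtain ⟨s, hs⟩ := hzns μ
          exact hs (Module.End.mem_eigenspace_iff.mp (htop ▸ Submodule.mem_top))
        have h1 := ih _ hlt ((ρ z).eigenspace μ) rfl Q hQ (ldRestr ρ _ (hinvW μ))
        exact ldRestr_ker _ _ (hinvW μ) x
          (h1 (derivedSeries_antitone Q (Nat.succ_le_succ (Nat.log_mono_right (le_of_lt hlt))) hx)) t ht
      exact Subgroup.mem_bot.mpr (hρ (by rw [hx1, map_one]))

theorem ld_semisimple (p : ℕ) [Fact p.Prime] [IsAlgClosed K] (hpK : (p : K) ≠ 0) :
    ∀ (d : ℕ) (V : Type w) [AddCommGroup V] [Module K V] [FiniteDimensional K V],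
      finrank K V = d → ∀ (P : Type v) [Group P] [Finite P], IsPGroup p P →
      ∀ ρ : P →* Module.End K V, derivedSeries P (Nat.log 2 d + 1) ≤ ρ.ker := by
  intro d
  induction d using Nat.strong_induction_on with
  | _ d ih =>
    intro V _ _ _ hd P _ _ hP ρ
    have hρq : Function.Injective ((Units.coeHom (Module.End K V)).comp
        (QuotientGroup.kerLift ρ.toHomUnits)) := by
      intro x y hxy
      apply QuotientGroup.kerLift_injective ρ.toHomUnits
      exact Units.ext hxy
    have hQ : IsPGroup p (P ⧸ ρ.toHomUnits.ker) := hP.to_quotient _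
    have h := ld_semisimple_step p hpK d ih V hd (P ⧸ ρ.toHomUnits.ker) hQ _ hρq
    intro x hx
    have h1 : (QuotientGroup.mk' ρ.toHomUnits.ker) x ∈
        derivedSeries (P ⧸ ρ.toHomUnits.ker) (Nat.log 2 d + 1) :=
      map_derivedSeries_le_derivedSeries _ _ (Subgroup.mem_map_of_mem _ hx)
    rw [h, Subgroup.mem_bot] at h1
    have h2 : x ∈ ρ.toHomUnits.ker := (QuotientGroup.eq_one_iff x).mp h1
    rw [MonoidHom.mem_ker] at h2 ⊢
    have h3 := congrArg Units.val h2
    simpa using h3

end semisimple

end Cfsg.Agent.Helper17
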