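import Mathlib
import Cfsg.Prelude.Def_JordanBlocks

set_option autoImplicit false

open Matrix

namespace Cfsg.Agent.Helper17

theorem jb_sub_one_apply {F : Type*} [Field F] (d : ℕ) (a b : Fin d) :
    (Cfsg.jordanBlock d F - 1) a b = if (a : ℕ) = (b : ℕ) + 1 then 1 else 0 := by
  unfold Cfsg.jordanBlock
  rw [Matrix.sub_apply, Matrix.of_apply, Matrix.one_apply]
  by_cases h : a = b
  · subst h
    simp
  · have h' : ¬ (a : ℕ) = (b : ℕ) := fun e => h (Fin.ext e)
    rw [if_neg h', if_neg h, sub_zero]

theorem jb_sub_one_pow_apply {F : Type*} [Field F] (d k : ℕ) (a b : Fin d) :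
    ((Cfsg.jordanBlock d F - 1) ^ k) a b = if (a : ℕ) = (b : ℕ) + k then 1 else 0 := by
  induction k generalizing a b with
  | zero =>
    rw [pow_zero, Matrix.one_apply]
    exact if_congr (by rw [Fin.ext_iff]; omega) rfl rfl
  | succ k ih =>
    rw [pow_succ, Matrix.mul_apply]
    simp only [ih, jb_sub_one_apply]
    by_cases hb : (b : ℕ) + 1 < d
    · rw [Finset.sum_eq_single (⟨(b : ℕ) + 1, hb⟩ : Fin d)]
      · show (if (a : ℕ) = (b : ℕ) + 1 + k then (1 : F) else 0) *
            (if (b : ℕ) + 1 = (b : ℕ) + 1 then 1 else 0)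
            = if (a : ℕ) = (b : ℕ) + (k + 1) then 1 else 0
        rw [if_pos rfl, mul_one]
        exact if_congr (by omega) rfl rfl
      · intro c _ hc
        have h' : ¬ (c : ℕ) = (b : ℕ) + 1 := fun e => hc (Fin.ext e)
        rw [if_neg h', mul_zero]
      · intro h
        exact absurd (Finset.mem_univ _) h
    · have h2 : ¬ (a : ℕ) = (b : ℕ) + (k + 1) := by have := a.2; omega
      rw [if_neg h2]
      apply Finset.sum_eq_zero
      intro c _
      have h1 : ¬ (c : ℕ) = (b : ℕ) + 1 := by have := c.2; omega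
      rw [if_neg h1, mul_zero]

theorem rank_submatrix_le' {F : Type*} [Field F] {m n : ℕ} (A : Matrix (Fin n) (Fin n) F)
    (f g : Fin m → Fin n) : (A.submatrix f g).rank ≤ A.rank := by
  have e : A.submatrix f g
      = (Matrix.of fun (c : Fin m) (a : Fin n) => if f c = a then (1 : F) else 0) * A *
        (Matrix.of fun (b : Fin n) (c : Fin m) => if b = g c then (1 : F) else 0) := by
    ext c c'
    simp [Matrix.mul_apply]
  rw [e]
  exact (Matrix.rank_mul_le_left _ _).trans (Matrix.rank_mul_le_right _ _)

/-- The `k`-th power of the nilpotent part of a Jordan block of size `d` has rank `d - k`. -/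
theorem jb_sub_one_pow_rank {F : Type*} [Field F] (d k : ℕ) :
    ((Cfsg.jordanBlock d F - 1) ^ k).rank = d - k := by
  apply le_antisymm
  · have e : (Cfsg.jordanBlock d F - 1) ^ k =
        (Matrix.of fun (a : Fin d) (c : Fin (d - k)) =>
          ((Cfsg.jordanBlock d F - 1) ^ k) a ⟨(c : ℕ), by have := c.2; omega⟩) *
        (Matrix.of fun (c : Fin (d - k)) (b : Fin d) =>
          if (c : ℕ) = (b : ℕ) then (1 : F) else 0) := by
      ext a b
      rw [Matrix.mul_apply]
      simp only [Matrix.of_apply]
      by_cases hb : (b : ℕ) < d - k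
      · rw [Finset.sum_eq_single (⟨(b : ℕ), hb⟩ : Fin (d - k))]
        · simp
        · intro c _ hc
          have h' : ¬ (c : ℕ) = (b : ℕ) := fun e => hc (Fin.ext e)
          rw [if_neg h', mul_zero]
        · intro h
          exact absurd (Finset.mem_univ _) h
      · rw [jb_sub_one_pow_apply, if_neg (by have := a.2; omega)]
        symm
        apply Finset.sum_eq_zero
        intro c _
        have h1 : ¬ (c : ℕ) = (b : ℕ) := by have := c.2; omega
        rw [if_neg h1, mul_zero]
    rw [e]
    exact (Matrix.rank_mul_le_left _ _).trans (Matrix.rank_le_width _)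
  · by_cases hkd : d ≤ k
    · have h0 : d - k = 0 := by omega
      rw [h0]
      exact Nat.zero_le _
    · have hsub : ((Cfsg.jordanBlock d F - 1) ^ k).submatrix
          (fun c : Fin (d - k) => (⟨(c : ℕ) + k, by have := c.2; omega⟩ : Fin d))
          (fun c : Fin (d - k) => (⟨(c : ℕ), by have := c.2; omega⟩ : Fin d)) = 1 := by
        ext c c'
        rw [Matrix.submatrix_apply, jb_sub_one_pow_apply, Matrix.one_apply]
        show (if (c : ℕ) + k = (c' : ℕ) + k then (1 : F) else 0) = if c = c' then 1 else 0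
        exact if_congr (by rw [Fin.ext_iff]; omega) rfl rfl
      have h1 := rank_submatrix_le' ((Cfsg.jordanBlock d F - 1) ^ k)
        (fun c : Fin (d - k) => (⟨(c : ℕ) + k, by have := c.2; omega⟩ : Fin d))
        (fun c : Fin (d - k) => (⟨(c : ℕ), by have := c.2; omega⟩ : Fin d))
      rw [hsub, Matrix.rank_one, Fintype.card_fin] at h1
      exact h1

end Cfsg.Agent.Helper17
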