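import Cfsg.Agent.Helper17.Basic
import Mathlib.GroupTheory.SpecificGroups.Cyclic.Basic
import Mathlib.NumberTheory.Basic
import Mathlib.RingTheory.Coprime.Lemmas

set_option autoImplicit false

namespace Cfsg.Agent.Helper17

variable {G : Type*} [Group G]

/-- If a cyclic Sylow `p`-subgroup `P` contains a nontrivial element centralized by `N_G(P)`, then
`N_G(P) ≤ C_G(P)`. -/
theorem normalizer_le_centralizer_of_cyclic [Finite G] {p : ℕ} [Fact p.Prime] (P : Sylow p G)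
    (hcyc : IsCyclic (P : Subgroup G)) (x : G) (hxP : x ∈ (P : Subgroup G)) (hx1 : x ≠ 1)
    (hN : Subgroup.normalizer ((P : Subgroup G) : Set G) ≤ Subgroup.centralizer ({x} : Set G)) :
    Subgroup.normalizer ((P : Subgroup G) : Set G) ≤ Subgroup.centralizer ((P : Subgroup G) : Set G) := by
  have hp : p.Prime := Fact.out
  intro n hn
  have hnP : ∀ y ∈ (P : Subgroup G), n * y * n⁻¹ ∈ (P : Subgroup G) :=
    fun y hy => ((Subgroup.mem_normalizer_iff.mp hn) y).mp hy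
  -- Step 1
  let σ : (P : Subgroup G) →* (P : Subgroup G) :=
    { toFun := fun y => ⟨n * y * n⁻¹, hnP y y.2⟩
      map_one' := by ext; simp
      map_mul' := by intro a b; ext; simp [mul_assoc] }
  obtain ⟨m, hm⟩ := MonoidHom.map_cyclic σ
  have hm' : ∀ y ∈ (P : Subgroup G), n * y * n⁻¹ = y ^ m := by
    intro y hy
    have := congrArg Subtype.val (hm ⟨y, hy⟩)
    simpa [σ] using this
  -- Step 2
  have hnx : n * x * n⁻¹ = x := by
    have := Subgroup.mem_centralizer_singleton_iff.mp (hN hn)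
    rw [this]; simp
  have hpm : (p : ℤ) ∣ m - 1 := by
    have h1 : x ^ (m - 1) = 1 := by
      rw [zpow_sub, zpow_one, ← hm' x hxP, hnx, mul_inv_cancel]
    have h2 : (orderOf x : ℤ) ∣ m - 1 := orderOf_dvd_iff_zpow_eq_one.mpr h1
    obtain ⟨k, hk⟩ := (IsPGroup.iff_orderOf.mp P.2) ⟨x, hxP⟩
    rw [Subgroup.orderOf_mk] at hk
    have hk0 : k ≠ 0 := by
      intro h0
      rw [h0, pow_zero, orderOf_eq_one_iff] at hk
      exact hx1 hk
    have h3 : (p : ℤ) ∣ (orderOf x : ℤ) := by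
      rw [hk]
      exact_mod_cast dvd_pow_self p hk0
    exact h3.trans h2
  -- Step 3
  have hiter : ∀ i : ℕ, ∀ y ∈ (P : Subgroup G), n ^ i * y * (n ^ i)⁻¹ = y ^ (m ^ i) := by
    intro i
    induction i with
    | zero => intro y _; simp
    | succ i ih =>
      intro y hy
      have e : n ^ (i + 1) * y * (n ^ (i + 1))⁻¹ = n * (n ^ i * y * (n ^ i)⁻¹) * n⁻¹ := by
        rw [pow_succ']; simp [mul_assoc]
      rw [e, ih y hy, ← conj_zpow, hm' y hy, ← zpow_mul, pow_succ, mul_comm]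
  -- Step 4
  obtain ⟨c, hc⟩ := P.2.exists_card_eq
  have hdiv : ((p ^ (c + 1) : ℕ) : ℤ) ∣ m ^ p ^ c - 1 := by
    have := dvd_sub_pow_of_dvd_sub (R := ℤ) (p := p) (a := m) (b := 1) (by simpa using hpm) c
    simpa using this
  have hpc : n ^ p ^ c ∈ Subgroup.centralizer ((P : Subgroup G) : Set G) := by
    rw [Subgroup.mem_centralizer_iff]
    intro y hy
    have h1 := hiter (p ^ c) y hy
    have h2 : orderOf y ∣ p ^ c := by
      have := orderOf_dvd_natCard (⟨y, hy⟩ : (P : Subgroup G))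
      rwa [Subgroup.orderOf_mk, hc] at this
    have h3 : y ^ (m ^ p ^ c - 1) = 1 := by
      apply orderOf_dvd_iff_zpow_eq_one.mp
      have h4 : ((orderOf y : ℕ) : ℤ) ∣ ((p ^ (c + 1) : ℕ) : ℤ) :=
        Int.natCast_dvd_natCast.mpr (h2.trans (pow_dvd_pow p (Nat.le_succ c)))
      exact h4.trans hdiv
    have h5 : y ^ (m ^ p ^ c) = y := by
      have : m ^ p ^ c = (m ^ p ^ c - 1) + 1 := by ring
      rw [this, zpow_add, h3, zpow_one, one_mul]
    rw [h5] at h1
    calc y * n ^ p ^ c = (n ^ p ^ c * y * (n ^ p ^ c)⁻¹)⁻¹⁻¹ * n ^ p ^ c := by rw [h1]; simp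
      _ = n ^ p ^ c * y := by simp [mul_assoc]
  -- Step 5
  have ho : orderOf n ≠ 0 := (orderOf_pos n).ne'
  obtain ⟨e, t, ht, hot⟩ := Nat.exists_eq_pow_mul_and_not_dvd ho p hp.ne_one
  have hcomm : ∀ a ∈ (P : Subgroup G), ∀ b ∈ (P : Subgroup G), a * b = b * a := by
    intro a ha b hb
    obtain ⟨g, hg⟩ := hcyc.exists_generator
    obtain ⟨i, hi⟩ := Subgroup.mem_zpowers_iff.mp (hg ⟨a, ha⟩)
    obtain ⟨j, hj⟩ := Subgroup.mem_zpowers_iff.mp (hg ⟨b, hb⟩)
    have hi' : a = (g : G) ^ i := by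
      have := congrArg Subtype.val hi; simpa using this.symm
    have hj' : b = (g : G) ^ j := by
      have := congrArg Subtype.val hj; simpa using this.symm
    rw [hi', hj', ← zpow_add, ← zpow_add, add_comm]
  have hnt : n ^ t ∈ Subgroup.centralizer ((P : Subgroup G) : Set G) := by
    have h1 : (n ^ t) ^ p ^ e = 1 := by
      rw [← pow_mul, mul_comm, ← hot, pow_orderOf_eq_one]
    have hpg : IsPGroup p (Subgroup.zpowers (n ^ t)) := by
      obtain ⟨j, _, hj⟩ := (Nat.dvd_prime_pow hp).mp (orderOf_dvd_of_pow_eq_one h1)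
      exact isPGroup_zpowers_of_orderOf _ j hj
    have h2 : n ^ t ∈ Subgroup.zpowers (n ^ t) ⊓ Subgroup.normalizer ((P : Subgroup G) : Set G) :=
      Subgroup.mem_inf.mpr ⟨Subgroup.mem_zpowers _, Subgroup.pow_mem _ hn t⟩
    have h2' : n ^ t ∈ Subgroup.zpowers (n ^ t) ⊓ (P : Subgroup G) := by
      rw [← hpg.inf_normalizer_sylow P]; exact h2
    have h3 : n ^ t ∈ (P : Subgroup G) := h2'.2
    rw [Subgroup.mem_centralizer_iff]
    intro y hy
    exact hcomm y hy _ h3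
  -- Step 6
  have hcop : IsCoprime (t : ℤ) ((p ^ c : ℕ) : ℤ) := by
    rw [Nat.isCoprime_iff_coprime]
    exact Nat.Coprime.pow_right c ((Nat.Prime.coprime_iff_not_dvd hp).mpr ht).symm
  obtain ⟨a, b, hab⟩ := hcop
  have hfin : n = (n ^ t) ^ a * (n ^ p ^ c) ^ b := by
    rw [← zpow_natCast n t, ← zpow_natCast n (p ^ c), ← zpow_mul, ← zpow_mul, ← zpow_add]
    have : (t : ℤ) * a + ((p ^ c : ℕ) : ℤ) * b = 1 := by rw [← hab]; ring
    rw [this, zpow_one]
  rw [hfin]
  exact Subgroup.mul_mem _ (Subgroup.zpow_mem _ hnt a) (Subgroup.zpow_mem _ hpc b)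

end Cfsg.Agent.Helper17
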