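import Mathlib
import Cfsg.Agent.Helper17.RelSylow2
import Cfsg.Agent.Helper21.UniqueSub

set_option autoImplicit false

namespace Cfsg.Agent.Helper17

theorem exists_pow_eq_of_prime_card {G : Type*} [Group G] [Finite G] {p : ℕ} [Fact p.Prime]
    (Z : Subgroup G) (hZ : Nat.card Z = p) {z : G} (hz : z ∈ Z) (hz1 : z ≠ 1) (a : G)
    (ha : a ∈ Z) : ∃ n : ℕ, z ^ n = a := by
  have hpp : p.Prime := Fact.out
  have ho : orderOf z = p := by
    have h1 : orderOf (⟨z, hz⟩ : Z) ∣ p := hZ ▸ orderOf_dvd_natCard _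
    rw [Subgroup.orderOf_mk] at h1
    rcases (Nat.dvd_prime hpp).1 h1 with h | h
    · exact absurd (orderOf_eq_one_iff.1 h) hz1
    · exact h
  have hle : Subgroup.zpowers z ≤ Z := (Subgroup.zpowers_le).2 hz
  have heq : Subgroup.zpowers z = Z :=
    Subgroup.eq_of_le_of_card_ge hle (by rw [Nat.card_zpowers, ho, hZ])
  have ha' : a ∈ Subgroup.zpowers z := heq ▸ ha
  have := mem_powers_iff_mem_zpowers.2 ha'
  exact (Submonoid.mem_powers_iff a z).1 this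

theorem order_p_cube_facts {H : Type*} [Group H] {p : ℕ} [Fact p.Prime]
    (hcard : Nat.card H = p ^ 3) (hZ : Nat.card (Subgroup.center H) = p) :
    (∀ a b : H, a * b * a⁻¹ * b⁻¹ ∈ Subgroup.center H) ∧
      (∀ a : H, a ^ p ∈ Subgroup.center H) := by
  have hpp : p.Prime := Fact.out
  haveI : Finite H := Nat.finite_of_card_ne_zero (by rw [hcard]; exact pow_ne_zero _ hpp.ne_zero)
  have hQ : Nat.card (H ⧸ Subgroup.center H) = p ^ 2 := by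
    have h1 := Subgroup.card_eq_card_quotient_mul_card_subgroup (Subgroup.center H)
    rw [hcard, hZ] at h1
    have h2 : p ^ 3 = p ^ 2 * p := by ring
    rw [h2] at h1
    exact (Nat.eq_of_mul_eq_mul_right hpp.pos h1).symm
  have hcommQ : ∀ a b : H ⧸ Subgroup.center H, a * b = b * a := by
    have := IsPGroup.isMulCommutative_of_card_eq_prime_sq hQ
    exact fun a b => this.is_comm.comm a b
  refine ⟨?_, ?_⟩
  · intro a b
    rw [← QuotientGroup.eq_one_iff]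
    simp only [QuotientGroup.mk_mul, QuotientGroup.mk_inv]
    rw [hcommQ (a : H ⧸ _) b]
    group
  · intro a
    rw [← QuotientGroup.eq_one_iff, QuotientGroup.mk_pow]
    have hd : orderOf (a : H ⧸ Subgroup.center H) ∣ p ^ 2 := hQ ▸ orderOf_dvd_natCard _
    obtain ⟨k, hk, hkc⟩ := (Nat.dvd_prime_pow hpp).1 hd
    have hk1 : k ≤ 1 := by
      by_contra hcon
      have hk2 : k = 2 := by omega
      haveI : IsCyclic (H ⧸ Subgroup.center H) :=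
        isCyclic_of_orderOf_eq_card (a : H ⧸ _) (by rw [hkc, hk2, hQ])
      have hab : IsMulCommutative H :=
        MonoidHom.isMulCommutative_of_isCyclic_of_ker_le_center
          (QuotientGroup.mk' (Subgroup.center H)) (by rw [QuotientGroup.ker_mk'])
      have htop : Subgroup.center H = ⊤ := by
        rw [eq_top_iff]
        intro g _
        rw [Subgroup.mem_center_iff]
        intro h
        exact hab.is_comm.comm h g
      rw [htop, Subgroup.card_top, hcard] at hZ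
      have h3 : p ^ 3 = p ^ 1 := by rw [hZ, pow_one]
      have := Nat.pow_right_injective hpp.two_le h3
      omega
    apply orderOf_dvd_iff_pow_eq_one.1
    rw [hkc]
    exact (pow_dvd_pow p hk1).trans (by rw [pow_one])

theorem center_strongly_closed_aux {G : Type*} [Group G] [Finite G] {p : ℕ} [Fact p.Prime]
    (hp : p ≠ 2) (P : Sylow p G) (Z : Subgroup G)
    (hcard : Nat.card (P : Subgroup G) = p ^ 3)
    (hZP : Z ≤ (P : Subgroup G))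
    (hZc : ∀ a ∈ Z, ∀ h ∈ (P : Subgroup G), h * a = a * h)
    (hZc' : ∀ a ∈ (P : Subgroup G), (∀ h ∈ (P : Subgroup G), h * a = a * h) → a ∈ Z)
    (hZcard : Nat.card Z = p)
    (hcomm : ∀ a ∈ (P : Subgroup G), ∀ b ∈ (P : Subgroup G), a * b * a⁻¹ * b⁻¹ ∈ Z)
    (hpow : ∀ a ∈ (P : Subgroup G), a ^ p ∈ Z)
    (hx : ∃ x ∈ (P : Subgroup G), x ^ p ≠ 1) :
    ∀ z ∈ Z, ∀ g : G, g * z * g⁻¹ ∈ (P : Subgroup G) → g * z * g⁻¹ ∈ Z := by
  classical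
  have hpp : p.Prime := Fact.out
  intro z hz g₀ hy₀
  by_contra hyZ₀
  have hz1 : z ≠ 1 := by
    rintro rfl
    apply hyZ₀
    simp [Z.one_mem]
  obtain ⟨g, hgy, hW⟩ : ∃ g : G, g * z * g⁻¹ = g₀ * z * g₀⁻¹ ∧
      ∀ a ∈ Z, g⁻¹ * a * g ∈ (P : Subgroup G) := by
    have hPC : (P : Subgroup G) ≤ Subgroup.centralizer {z} := by
      intro h hh
      rw [Subgroup.mem_centralizer_iff]
      intro x hx
      rw [Set.mem_singleton_iff] at hx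
      subst hx
      exact (hZc x hz h hh).symm
    have hZ'C : Z.map (MulAut.conj g₀⁻¹).toMonoidHom ≤ Subgroup.centralizer {z} := by
      rintro _ ⟨a, ha, rfl⟩
      rw [Subgroup.mem_centralizer_iff]
      intro x hx
      rw [Set.mem_singleton_iff] at hx
      subst hx
      have h1 : (g₀ * x * g₀⁻¹) * a = a * (g₀ * x * g₀⁻¹) := hZc a ha _ hy₀
      simp only [MulEquiv.coe_toMonoidHom, MulAut.conj_apply, inv_inv]
      calc x * (g₀⁻¹ * a * g₀) = g₀⁻¹ * ((g₀ * x * g₀⁻¹) * a) * g₀ := by group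
        _ = g₀⁻¹ * (a * (g₀ * x * g₀⁻¹)) * g₀ := by rw [h1]
        _ = g₀⁻¹ * a * g₀ * x := by group
    have hZ'p : IsPGroup p (Z.map (MulAut.conj g₀⁻¹).toMonoidHom) := (P.2.to_le hZP).map _
    obtain ⟨h, hh, hhE⟩ := exists_conj_le_of_sylow_le P _ hPC _ hZ'C hZ'p
    refine ⟨g₀ * h⁻¹, ?_, ?_⟩
    · have h1 : h⁻¹ * z * h = z := by
        have h2 := Subgroup.mem_centralizer_iff.1 hh z rfl
        rw [mul_assoc, h2]
        group
      calc g₀ * h⁻¹ * z * (g₀ * h⁻¹)⁻¹ = g₀ * (h⁻¹ * z * h) * g₀⁻¹ := by group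
        _ = _ := by rw [h1]
    · intro a ha
      have h3 := hhE (g₀⁻¹ * a * g₀) ⟨a, ha, by simp⟩
      have e : (g₀ * h⁻¹)⁻¹ * a * (g₀ * h⁻¹) = h * (g₀⁻¹ * a * g₀) * h⁻¹ := by group
      rw [e]
      exact h3
  rw [← hgy] at hy₀ hyZ₀
  have hZgen : ∀ w ∈ Z, w ≠ 1 → ∀ a ∈ Z, ∃ n : ℕ, w ^ n = a := by
    intro w hw hw1 a ha
    exact exists_pow_eq_of_prime_card Z hZcard hw hw1 a ha
  have hZpow : ∀ a ∈ Z, a ^ p = 1 := by
    intro a ha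
    have h1 := pow_card_eq_one' (G := Z) (x := ⟨a, ha⟩)
    rw [hZcard] at h1
    exact congrArg Subtype.val h1
  obtain ⟨y, hydef⟩ : ∃ y, y = g * z * g⁻¹ := ⟨_, rfl⟩
  rw [← hydef] at hy₀ hyZ₀
  have hyP : y ∈ (P : Subgroup G) := hy₀
  have hyp : y ^ p = 1 := by
    rw [hydef, conj_pow, hZpow z hz]
    group
  obtain ⟨s, hsP, hsy⟩ : ∃ s ∈ (P : Subgroup G), s * y ≠ y * s := by
    by_contra hcon
    push Not at hcon
    exact hyZ₀ (hZc' y hyP hcon)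
  obtain ⟨z₁, hz₁def⟩ : ∃ z₁, z₁ = s * y * s⁻¹ * y⁻¹ := ⟨_, rfl⟩
  have hz₁Z : z₁ ∈ Z := hz₁def ▸ hcomm s hsP y hyP
  have hz₁1 : z₁ ≠ 1 := by
    intro h
    apply hsy
    have h1 : s * y = z₁ * y * s := by rw [hz₁def]; group
    rw [h1, h, one_mul]
  have hsy' : s * y * s⁻¹ = z₁ * y := by rw [hz₁def]; group
  have hsz₁ : s * z₁ * s⁻¹ = z₁ := by rw [hZc z₁ hz₁Z s hsP]; group
  have hyz₁ : y * z₁ = z₁ * y := hZc z₁ hz₁Z y hyP
  have hz₁'P : g⁻¹ * z₁ * g ∈ (P : Subgroup G) := hW z₁ hz₁Z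
  have hz₁'Z : g⁻¹ * z₁ * g ∉ Z := by
    intro hmem
    obtain ⟨m, hm⟩ := hZgen z hz hz1 _ hmem
    have h1 : z₁ = y ^ m := by
      rw [hydef, conj_pow, hm]
      group
    have hycard : Nat.card (Subgroup.zpowers y) = p := by
      rw [Nat.card_zpowers]
      have hd : orderOf y ∣ p := orderOf_dvd_of_pow_eq_one hyp
      rcases (Nat.dvd_prime hpp).1 hd with h | h
      · exfalso
        rw [orderOf_eq_one_iff] at h
        exact hyZ₀ (h ▸ Z.one_mem)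
      · exact h
    obtain ⟨n, hn⟩ := exists_pow_eq_of_prime_card (Subgroup.zpowers y) hycard (z := z₁)
      (by rw [h1]; exact Subgroup.pow_mem _ (Subgroup.mem_zpowers y) m) hz₁1 y
      (Subgroup.mem_zpowers y)
    exact hyZ₀ (hn ▸ Z.pow_mem hz₁Z n)
  obtain ⟨t', ht'P, ht'z⟩ : ∃ t' ∈ (P : Subgroup G),
      t' * (g⁻¹ * z₁ * g) ≠ (g⁻¹ * z₁ * g) * t' := by
    by_contra hcon
    push Not at hcon
    exact hz₁'Z (hZc' _ hz₁'P hcon)
  obtain ⟨c', hc'def⟩ : ∃ c', c' = t' * (g⁻¹ * z₁ * g) * t'⁻¹ * (g⁻¹ * z₁ * g)⁻¹ := ⟨_, rfl⟩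
  have hc'Z : c' ∈ Z := hc'def ▸ hcomm t' ht'P _ hz₁'P
  have hc'1 : c' ≠ 1 := by
    intro h
    apply ht'z
    have h1 : t' * (g⁻¹ * z₁ * g) = c' * (g⁻¹ * z₁ * g) * t' := by rw [hc'def]; group
    rw [h1, h, one_mul]
  obtain ⟨n, hn⟩ := hZgen c' hc'Z hc'1 z⁻¹ (Z.inv_mem hz)
  obtain ⟨t, htdef⟩ : ∃ t, t = g * t' * g⁻¹ := ⟨_, rfl⟩
  obtain ⟨y₂, hy₂def⟩ : ∃ y₂, y₂ = g * c' * g⁻¹ := ⟨_, rfl⟩
  have hty : t * y * t⁻¹ = y := by
    have h1 : t' * z * t'⁻¹ = z := by rw [hZc z hz t' ht'P]; group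
    rw [htdef, hydef]
    calc g * t' * g⁻¹ * (g * z * g⁻¹) * (g * t' * g⁻¹)⁻¹ = g * (t' * z * t'⁻¹) * g⁻¹ := by group
      _ = _ := by rw [h1]
  have hty₂ : t * y₂ * t⁻¹ = y₂ := by
    have h1 : t' * c' * t'⁻¹ = c' := by rw [hZc c' hc'Z t' ht'P]; group
    rw [htdef, hy₂def]
    calc g * t' * g⁻¹ * (g * c' * g⁻¹) * (g * t' * g⁻¹)⁻¹ = g * (t' * c' * t'⁻¹) * g⁻¹ := by group
      _ = _ := by rw [h1]
  have htz₁ : t * z₁ * t⁻¹ = y₂ * z₁ := by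
    rw [htdef, hy₂def, hc'def]
    group
  have hy₂n : y₂ ^ n = y⁻¹ := by
    rw [hy₂def, conj_pow, hn, hydef]
    group
  have htn : ∀ k : ℕ, t ^ k * z₁ * (t ^ k)⁻¹ = y₂ ^ k * z₁ := by
    intro k
    induction k with
    | zero => simp
    | succ k ih =>
      calc t ^ (k + 1) * z₁ * (t ^ (k + 1))⁻¹ = t * (t ^ k * z₁ * (t ^ k)⁻¹) * t⁻¹ := by
            rw [pow_succ']; group
        _ = t * (y₂ ^ k * z₁) * t⁻¹ := by rw [ih]
        _ = (t * y₂ * t⁻¹) ^ k * (t * z₁ * t⁻¹) := by rw [conj_pow]; group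
        _ = y₂ ^ (k + 1) * z₁ := by rw [hty₂, htz₁, pow_succ]; group
  have htny : ∀ k : ℕ, t ^ k * y * (t ^ k)⁻¹ = y := by
    intro k
    induction k with
    | zero => simp
    | succ k ih =>
      calc t ^ (k + 1) * y * (t ^ (k + 1))⁻¹ = t * (t ^ k * y * (t ^ k)⁻¹) * t⁻¹ := by
            rw [pow_succ']; group
        _ = y := by rw [ih, hty]
  obtain ⟨t'', ht''def⟩ : ∃ t'', t'' = t ^ n := ⟨_, rfl⟩
  have ht''z₁ : t'' * z₁ * t''⁻¹ = y⁻¹ * z₁ := by rw [ht''def, htn, hy₂n]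
  have ht''y : t'' * y * t''⁻¹ = y := by rw [ht''def]; exact htny n
  obtain ⟨w, hwdef⟩ : ∃ w, w = s * t'' * s := ⟨_, rfl⟩
  have hwy : w * y * w⁻¹ = z₁ := by
    calc w * y * w⁻¹ = s * (t'' * (s * y * s⁻¹) * t''⁻¹) * s⁻¹ := by rw [hwdef]; group
      _ = s * (t'' * (z₁ * y) * t''⁻¹) * s⁻¹ := by rw [hsy']
      _ = s * ((t'' * z₁ * t''⁻¹) * (t'' * y * t''⁻¹)) * s⁻¹ := by group
      _ = s * (y⁻¹ * z₁ * y) * s⁻¹ := by rw [ht''z₁, ht''y]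
      _ = s * (y⁻¹ * (y * z₁)) * s⁻¹ := by rw [hyz₁]; group
      _ = s * z₁ * s⁻¹ := by group
      _ = z₁ := hsz₁
  have hwz₁ : w * z₁ * w⁻¹ = y⁻¹ := by
    calc w * z₁ * w⁻¹ = s * (t'' * (s * z₁ * s⁻¹) * t''⁻¹) * s⁻¹ := by rw [hwdef]; group
      _ = s * (y⁻¹ * z₁) * s⁻¹ := by rw [hsz₁, ht''z₁]
      _ = (s * y * s⁻¹)⁻¹ * (s * z₁ * s⁻¹) := by group
      _ = (z₁ * y)⁻¹ * z₁ := by rw [hsy', hsz₁]
      _ = y⁻¹ := by group
  obtain ⟨t₀, ht₀def⟩ : ∃ t₀, t₀ = w * w := ⟨_, rfl⟩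
  have ht₀y : t₀ * y * t₀⁻¹ = y⁻¹ := by
    calc t₀ * y * t₀⁻¹ = w * (w * y * w⁻¹) * w⁻¹ := by rw [ht₀def]; group
      _ = y⁻¹ := by rw [hwy, hwz₁]
  have ht₀z₁ : t₀ * z₁ * t₀⁻¹ = z₁⁻¹ := by
    calc t₀ * z₁ * t₀⁻¹ = w * (w * z₁ * w⁻¹) * w⁻¹ := by rw [ht₀def]; group
      _ = (w * y * w⁻¹)⁻¹ := by rw [hwz₁]; group
      _ = z₁⁻¹ := by rw [hwy]
  -- the subgroup E
  obtain ⟨E, hEdef⟩ : ∃ E, E = (P : Subgroup G) ⊓ Subgroup.centralizer {y} := ⟨_, rfl⟩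
  have hEmem : ∀ a, a ∈ E ↔ a ∈ (P : Subgroup G) ∧ y * a = a * y := by
    intro a
    rw [hEdef, Subgroup.mem_inf, Subgroup.mem_centralizer_iff]
    constructor
    · rintro ⟨h1, h2⟩
      exact ⟨h1, h2 y rfl⟩
    · rintro ⟨h1, h2⟩
      refine ⟨h1, ?_⟩
      intro x hx
      rw [Set.mem_singleton_iff] at hx
      subst hx
      exact h2
  have hZE : Z ≤ E := by
    intro a ha
    rw [hEmem]
    exact ⟨hZP ha, hZc a ha y hyP⟩
  have hyE : y ∈ E := by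
    rw [hEmem]
    exact ⟨hyP, rfl⟩
  have hEP : E ≤ (P : Subgroup G) := by rw [hEdef]; exact inf_le_left
  have hEne : E ≠ (P : Subgroup G) := by
    intro h
    apply hsy
    have h1 : s ∈ E := h ▸ hsP
    rw [hEmem] at h1
    exact h1.2.symm
  obtain ⟨E₀, hE₀def⟩ : ∃ E₀, E₀ = Subgroup.zpowers y ⊔ Subgroup.zpowers z₁ := ⟨_, rfl⟩
  have hyE₀ : y ∈ E₀ := by rw [hE₀def]; exact Subgroup.mem_sup_left (Subgroup.mem_zpowers y)
  have hz₁E₀ : z₁ ∈ E₀ := by rw [hE₀def]; exact Subgroup.mem_sup_right (Subgroup.mem_zpowers z₁)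
  have hE₀E : E₀ ≤ E := by
    rw [hE₀def]
    exact sup_le ((Subgroup.zpowers_le).2 hyE) ((Subgroup.zpowers_le).2 (hZE hz₁Z))
  have hZE₀ : Z ≤ E₀ := by
    intro a ha
    obtain ⟨m, hm⟩ := hZgen z₁ hz₁Z hz₁1 a ha
    rw [← hm]
    exact Subgroup.pow_mem _ hz₁E₀ m
  have hEE₀ : E = E₀ := by
    symm
    apply Subgroup.eq_of_le_of_card_ge hE₀E
    have hE3 : Nat.card E ∣ p ^ 3 := hcard ▸ Subgroup.card_dvd_of_le hEP
    obtain ⟨j, hj, hjc⟩ := (Nat.dvd_prime_pow hpp).1 hE3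
    have hj2 : j ≤ 2 := by
      by_contra hcon
      have hj3 : j = 3 := by omega
      apply hEne
      apply Subgroup.eq_of_le_of_card_ge hEP
      rw [hjc, hj3, hcard]
    have hE₀3 : Nat.card E₀ ∣ p ^ 3 := hcard ▸ Subgroup.card_dvd_of_le (hE₀E.trans hEP)
    obtain ⟨k, hk, hkc⟩ := (Nat.dvd_prime_pow hpp).1 hE₀3
    have hk2 : 2 ≤ k := by
      by_contra hcon
      have hle : Nat.card E₀ ≤ Nat.card Z := by
        rw [hkc, hZcard]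
        calc p ^ k ≤ p ^ 1 := Nat.pow_le_pow_right hpp.pos (by omega)
          _ = p := pow_one p
      have h5 := Subgroup.eq_of_le_of_card_ge hZE₀ hle
      apply hyZ₀
      rw [h5]
      exact hyE₀
    rw [hjc, hkc]
    exact Nat.pow_le_pow_right hpp.pos (by omega)
  have hE₀cent : ∀ a ∈ E₀, y * a = a * y ∧ z₁ * a = a * z₁ := by
    intro a ha
    have h1 : E₀ ≤ Subgroup.centralizer {y} ⊓ Subgroup.centralizer {z₁} := by
      rw [hE₀def]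
      apply sup_le
      · rw [Subgroup.zpowers_le, Subgroup.mem_inf, Subgroup.mem_centralizer_iff,
          Subgroup.mem_centralizer_iff]
        refine ⟨?_, ?_⟩
        · intro x hx
          rw [Set.mem_singleton_iff] at hx
          subst hx
          rfl
        · intro x hx
          rw [Set.mem_singleton_iff] at hx
          subst hx
          exact hyz₁.symm
      · rw [Subgroup.zpowers_le, Subgroup.mem_inf, Subgroup.mem_centralizer_iff,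
          Subgroup.mem_centralizer_iff]
        refine ⟨?_, ?_⟩
        · intro x hx
          rw [Set.mem_singleton_iff] at hx
          subst hx
          exact hyz₁
        · intro x hx
          rw [Set.mem_singleton_iff] at hx
          subst hx
          rfl
    have h2 := h1 ha
    rw [Subgroup.mem_inf, Subgroup.mem_centralizer_iff, Subgroup.mem_centralizer_iff] at h2
    exact ⟨h2.1 y rfl, h2.2 z₁ rfl⟩
  have hE₀ab : ∀ a ∈ E₀, ∀ b ∈ E₀, a * b = b * a := by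
    intro a ha b hb
    have h1 : E₀ ≤ Subgroup.centralizer {a} := by
      rw [hE₀def]
      apply sup_le
      · rw [Subgroup.zpowers_le, Subgroup.mem_centralizer_iff]
        intro x hx
        rw [Set.mem_singleton_iff] at hx
        subst hx
        exact ((hE₀cent x ha).1).symm
      · rw [Subgroup.zpowers_le, Subgroup.mem_centralizer_iff]
        intro x hx
        rw [Set.mem_singleton_iff] at hx
        subst hx
        exact ((hE₀cent x ha).2).symm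
    exact Subgroup.mem_centralizer_iff.1 (h1 hb) a rfl
  let E₁ : Subgroup G :=
    { carrier := {e | e ∈ E₀ ∧ e ^ p = 1 ∧ t₀ * e * t₀⁻¹ = e⁻¹}
      one_mem' := ⟨E₀.one_mem, one_pow p, by simp⟩
      mul_mem' := by
        rintro a b ⟨ha, ha1, ha2⟩ ⟨hb, hb1, hb2⟩
        refine ⟨E₀.mul_mem ha hb, ?_, ?_⟩
        · have hc : Commute a b := hE₀ab a ha b hb
          rw [hc.mul_pow, ha1, hb1, one_mul]
        · have h1 : t₀ * (a * b) * t₀⁻¹ = (t₀ * a * t₀⁻¹) * (t₀ * b * t₀⁻¹) := by group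
          rw [h1, ha2, hb2, mul_inv_rev]
          exact hE₀ab _ (E₀.inv_mem ha) _ (E₀.inv_mem hb)
      inv_mem' := by
        rintro a ⟨ha, ha1, ha2⟩
        refine ⟨E₀.inv_mem ha, by rw [inv_pow, ha1, inv_one], ?_⟩
        have h1 : t₀ * a⁻¹ * t₀⁻¹ = (t₀ * a * t₀⁻¹)⁻¹ := by group
        rw [h1, ha2] }
  have hE₀E₁ : E₀ ≤ E₁ := by
    rw [hE₀def]
    apply sup_le
    · rw [Subgroup.zpowers_le]
      exact ⟨hyE₀, hyp, ht₀y⟩
    · rw [Subgroup.zpowers_le]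
      exact ⟨hz₁E₀, hZpow z₁ hz₁Z, ht₀z₁⟩
  have hEp : ∀ e ∈ E, e ^ p = 1 := fun e he => (hE₀E₁ (hEE₀ ▸ he)).2.1
  have hEinv : ∀ e ∈ E, t₀ * e * t₀⁻¹ = e⁻¹ := fun e he => (hE₀E₁ (hEE₀ ▸ he)).2.2
  have hEnorm : ∀ u ∈ (P : Subgroup G), ∀ e ∈ E, u * e * u⁻¹ ∈ E := by
    intro u hu e he
    have h1 : u * e * u⁻¹ = (u * e * u⁻¹ * e⁻¹) * e := by group
    rw [h1]
    exact E.mul_mem (hZE (hcomm u hu e (hEP he))) he
  have hEinv' : ∀ e ∈ E, t₀⁻¹ * e * t₀ = e⁻¹ := by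
    intro e he
    have h1 := hEinv e⁻¹ (E.inv_mem he)
    rw [inv_inv] at h1
    calc t₀⁻¹ * e * t₀ = t₀⁻¹ * (t₀ * e⁻¹ * t₀⁻¹) * t₀ := by rw [h1]
      _ = e⁻¹ := by group
  obtain ⟨x, hxP, hxp⟩ := hx
  obtain ⟨z₂, hz₂def⟩ : ∃ z₂, z₂ = x ^ p := ⟨_, rfl⟩
  have hz₂Z : z₂ ∈ Z := hz₂def ▸ hpow x hxP
  obtain ⟨x₂, hx₂def⟩ : ∃ x₂, x₂ = t₀ * x * t₀⁻¹ := ⟨_, rfl⟩
  have hx₂E : ∀ e ∈ E, x₂ * e * x₂⁻¹ = x * e * x⁻¹ := by
    intro e he
    have h1 : x₂ * e * x₂⁻¹ = t₀ * (x * (t₀⁻¹ * e * t₀) * x⁻¹) * t₀⁻¹ := by rw [hx₂def]; group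
    rw [h1, hEinv' e he]
    have h2 : x * e⁻¹ * x⁻¹ ∈ E := hEnorm x hxP _ (E.inv_mem he)
    rw [hEinv _ h2]
    group
  have hx₂p : x₂ ^ p = z₂⁻¹ := by
    rw [hx₂def, conj_pow, ← hz₂def]
    exact hEinv z₂ (hZE hz₂Z)
  obtain ⟨C, hCdef⟩ : ∃ C, C = Subgroup.centralizer (E : Set G) := ⟨_, rfl⟩
  have hCmem : ∀ c, c ∈ C ↔ ∀ e ∈ E, e * c = c * e := by
    intro c
    rw [hCdef, Subgroup.mem_centralizer_iff]
    rfl
  have hPC : ∀ u ∈ (P : Subgroup G), ∀ c ∈ C, u * c * u⁻¹ ∈ C := by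
    intro u hu c hc
    rw [hCmem] at hc ⊢
    intro e he
    have h1 : u⁻¹ * e * u ∈ E := by
      have h0 := hEnorm u⁻¹ (inv_mem hu) e he
      rwa [inv_inv] at h0
    have h2 := hc _ h1
    calc e * (u * c * u⁻¹) = u * ((u⁻¹ * e * u) * c) * u⁻¹ := by group
      _ = u * (c * (u⁻¹ * e * u)) * u⁻¹ := by rw [h2]
      _ = u * c * u⁻¹ * e := by group
  let X : Subgroup G :=
    { carrier := {g | ∃ u ∈ (P : Subgroup G), ∃ c ∈ C, g = u * c}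
      one_mem' := ⟨1, one_mem _, 1, one_mem _, by simp⟩
      mul_mem' := by
        rintro _ _ ⟨u, hu, c, hc, rfl⟩ ⟨u', hu', c', hc', rfl⟩
        refine ⟨u * u', mul_mem hu hu', (u'⁻¹ * c * u'⁻¹⁻¹) * c',
          C.mul_mem (hPC _ (inv_mem hu') c hc) hc', by group⟩
      inv_mem' := by
        rintro _ ⟨u, hu, c, hc, rfl⟩
        refine ⟨u⁻¹, inv_mem hu, u * c⁻¹ * u⁻¹, hPC u hu _ (C.inv_mem hc), by group⟩ }
  have hPX : (P : Subgroup G) ≤ X := fun u hu => ⟨u, hu, 1, C.one_mem, by simp⟩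
  have hx₂C : x⁻¹ * x₂ ∈ C := by
    rw [hCmem]
    intro e he
    have h1 := hx₂E e he
    calc e * (x⁻¹ * x₂) = x⁻¹ * (x * e * x⁻¹) * x₂ := by group
      _ = x⁻¹ * (x₂ * e * x₂⁻¹) * x₂ := by rw [h1]
      _ = x⁻¹ * x₂ * e := by group
  have hx₂X : x₂ ∈ X := ⟨x, hxP, _, hx₂C, by group⟩
  have hQX : Subgroup.zpowers x₂ ≤ X := (Subgroup.zpowers_le).2 hx₂X
  have hQp : IsPGroup p (Subgroup.zpowers x₂) := by
    have h1 : Subgroup.zpowers x₂ ≤ (P : Subgroup G).map (MulAut.conj t₀).toMonoidHom := by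
      rw [Subgroup.zpowers_le]
      exact ⟨x, hxP, by simp [hx₂def]⟩
    exact (P.2.map _).to_le h1
  obtain ⟨c₀, hc₀X, hc₀⟩ := exists_conj_le_of_sylow_le P X hPX _ hQX hQp
  obtain ⟨u, hu, c, hc, rfl⟩ := hc₀X
  have hx₃P : c * x₂ * c⁻¹ ∈ (P : Subgroup G) := by
    have h1 := hc₀ x₂ (Subgroup.mem_zpowers x₂)
    have h2 : c * x₂ * c⁻¹ = u⁻¹ * (u * c * x₂ * (u * c)⁻¹) * u := by group
    rw [h2]
    exact mul_mem (mul_mem (inv_mem hu) h1) hu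
  obtain ⟨x₃, hx₃def⟩ : ∃ x₃, x₃ = c * x₂ * c⁻¹ := ⟨_, rfl⟩
  rw [← hx₃def] at hx₃P
  have hcE : ∀ e ∈ E, c * e * c⁻¹ = e := by
    intro e he
    have h1 := (hCmem c).1 hc e he
    rw [← h1]
    group
  have hcE' : ∀ e ∈ E, c⁻¹ * e * c = e := by
    intro e he
    have h1 := (hCmem c).1 hc e he
    rw [mul_assoc, h1]
    group
  have hx₃E : ∀ e ∈ E, x₃ * e * x₃⁻¹ = x * e * x⁻¹ := by
    intro e he
    have h1 : x₃ * e * x₃⁻¹ = c * (x₂ * (c⁻¹ * e * c) * x₂⁻¹) * c⁻¹ := by rw [hx₃def]; group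
    rw [h1, hcE' e he, hx₂E e he]
    exact hcE _ (hEnorm x hxP e he)
  obtain ⟨e₃, he₃def⟩ : ∃ e₃, e₃ = x⁻¹ * x₃ := ⟨_, rfl⟩
  have he₃E : e₃ ∈ E := by
    rw [hEmem, he₃def]
    refine ⟨mul_mem (inv_mem hxP) hx₃P, ?_⟩
    have h1 := hx₃E y hyE
    calc y * (x⁻¹ * x₃) = x⁻¹ * (x * y * x⁻¹) * x₃ := by group
      _ = x⁻¹ * (x₃ * y * x₃⁻¹) * x₃ := by rw [h1]
      _ = x⁻¹ * x₃ * y := by group
  have hx₃p : x₃ ^ p = z₂⁻¹ := by
    rw [hx₃def, conj_pow, hx₂p]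
    exact hcE _ (E.inv_mem (hZE hz₂Z))
  have hx₃eq : x₃ = x * e₃ := by rw [he₃def]; group
  have he₃P : e₃ ∈ (P : Subgroup G) := hEP he₃E
  obtain ⟨c₄, hc₄def⟩ : ∃ c₄, c₄ = e₃ * x * e₃⁻¹ * x⁻¹ := ⟨_, rfl⟩
  have hc₄Z : c₄ ∈ Z := hc₄def ▸ hcomm e₃ he₃P x hxP
  have hformula : (x * e₃) ^ p = c₄ ^ (p * (p - 1) / 2) * (x ^ p * e₃ ^ p) := by
    have hc : ∀ g : ↥(P : Subgroup G), g * ⟨c₄, hZP hc₄Z⟩ = ⟨c₄, hZP hc₄Z⟩ * g := by
      intro g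
      apply Subtype.ext
      exact hZc c₄ hc₄Z g g.2
    have h : (⟨e₃, he₃P⟩ : ↥(P : Subgroup G)) * ⟨x, hxP⟩
        = ⟨c₄, hZP hc₄Z⟩ * (⟨x, hxP⟩ * ⟨e₃, he₃P⟩) := by
      apply Subtype.ext
      show e₃ * x = c₄ * (x * e₃)
      rw [hc₄def]
      group
    have h5 := Cfsg.Agent.Helper21.mul_pow_central hc h p
    exact congrArg Subtype.val h5
  obtain ⟨k, hk⟩ := hpp.odd_of_ne_two hp
  have hc₄pow : c₄ ^ (p * (p - 1) / 2) = 1 := by
    have h1 : p * (p - 1) / 2 = p * k := by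
      have h2 : p - 1 = 2 * k := by omega
      rw [h2, ← mul_assoc, mul_comm p 2, mul_assoc, Nat.mul_div_cancel_left _ (by norm_num)]
    rw [h1, pow_mul, hZpow c₄ hc₄Z, one_pow]
  have hfin : z₂⁻¹ = z₂ := by
    rw [← hx₃p, hx₃eq, hformula, hc₄pow, one_mul, hEp e₃ he₃E, mul_one, hz₂def]
  apply hxp
  rw [← hz₂def]
  have h2 : z₂ * z₂ = 1 := by
    nth_rewrite 1 [← hfin]
    exact inv_mul_cancel z₂
  have hzp : z₂ ^ p = 1 := hZpow z₂ hz₂Z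
  have h3 : z₂ = z₂ ^ p * ((z₂ * z₂) ^ k)⁻¹ := by
    rw [hk, ← pow_two, ← pow_mul, pow_succ]
    group
  rw [h3, hzp, h2]
  simp

end Cfsg.Agent.Helper17
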