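import Cfsg.Prelude.Def_IsolatedElements
import Cfsg.Agent.Helper17.Basic

set_option autoImplicit false

namespace Cfsg.Agent.Helper17

variable {G : Type*} [Group G]

/-- An isolated element of a finite `p`-subgroup is central in it. -/
theorem isolated_central [Finite G] {p : ℕ} [Fact p.Prime] {x : G} (hiso : Cfsg.IsIsolated x)
    (R : Subgroup G) (hR : IsPGroup p R) (hx : x ∈ R) : ∀ r ∈ R, r * x = x * r := by
  by_contra hcon
  push Not at hcon
  obtain ⟨r, hrR, hr⟩ := hcon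
  have hCR : R ⊓ Subgroup.centralizer ({x} : Set G) ≤ R := inf_le_left
  have hne : R ⊓ Subgroup.centralizer ({x} : Set G) ≠ R := by
    intro h
    have : r ∈ R ⊓ Subgroup.centralizer ({x} : Set G) := by rw [h]; exact hrR
    exact hr (Subgroup.mem_centralizer_singleton_iff.mp this.2)
  obtain ⟨n, hnR, hnC, hnN⟩ := exists_normalizer_mem_not_mem _ R hR hCR hne
  have hxC : x ∈ R ⊓ Subgroup.centralizer ({x} : Set G) :=
    Subgroup.mem_inf.mpr ⟨hx, Subgroup.mem_centralizer_singleton_iff.mpr rfl⟩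
  have h1 : n * x * n⁻¹ ∈ R ⊓ Subgroup.centralizer ({x} : Set G) :=
    ((Subgroup.mem_normalizer_iff.mp hnN) x).mp hxC
  have h2 : Commute x (n * x * n⁻¹) := (Subgroup.mem_centralizer_singleton_iff.mp h1.2).symm
  have h3 := hiso n h2
  apply hnC
  refine Subgroup.mem_inf.mpr ⟨hnR, Subgroup.mem_centralizer_singleton_iff.mpr ?_⟩
  calc n * x = (n * x * n⁻¹) * n := by simp [mul_assoc]
    _ = x * n := by rw [h3]

/-- If an isolated `p`-element `x` and a conjugate of it both lie in a subgroup `N`, they are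
conjugate by an element of `N`. -/
theorem isolated_conj [Finite G] {p : ℕ} [Fact p.Prime] {x : G} (k : ℕ) (hx : orderOf x = p ^ k)
    (hiso : Cfsg.IsIsolated x) (N : Subgroup G) (hxN : x ∈ N) (g : G) (hg : g * x * g⁻¹ ∈ N) :
    ∃ n ∈ N, g * x * g⁻¹ = n * x * n⁻¹ := by
  obtain ⟨P⟩ : Nonempty (Sylow p N) := inferInstance
  have ox : orderOf (⟨x, hxN⟩ : N) = p ^ k := by rw [Subgroup.orderOf_mk]; exact hx
  have oy : orderOf (⟨g * x * g⁻¹, hg⟩ : N) = p ^ k := by
    rw [Subgroup.orderOf_mk, ← hx]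
    exact orderOf_conj_eq g x
  obtain ⟨a, ha⟩ := exists_conj_mem_sylow P _ k ox
  obtain ⟨b, hb⟩ := exists_conj_mem_sylow P _ k oy
  -- the p-subgroup of G
  set R : Subgroup G := ((P : Subgroup N).map N.subtype).map (MulAut.conj (a : G)⁻¹).toMonoidHom with hRdef
  have hR : IsPGroup p R := (P.2.map N.subtype).map _
  have hxR : x ∈ R := by
    rw [hRdef, mem_map_conj]
    refine ⟨_, ha, ?_⟩
    simp
  have hyR : ((a : G)⁻¹ * (b : G) * g) * x * ((a : G)⁻¹ * (b : G) * g)⁻¹ ∈ R := by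
    rw [hRdef, mem_map_conj]
    refine ⟨_, hb, ?_⟩
    simp [mul_assoc]
  have h1 := isolated_central hiso R hR hxR _ hyR
  have h2 := hiso _ (Commute.symm h1)
  refine ⟨(b : G)⁻¹ * (a : G), N.mul_mem (N.inv_mem b.2) a.2, ?_⟩
  have h3 : g * x * g⁻¹ = (b : G)⁻¹ * (a : G) * (((a : G)⁻¹ * (b : G) * g) * x * ((a : G)⁻¹ * (b : G) * g)⁻¹) * ((b : G)⁻¹ * (a : G))⁻¹ := by
    simp [mul_assoc]
  rw [h3, h2]

end Cfsg.Agent.Helper17
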