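import Mathlib
import Cfsg.Prelude.Def_JordanBlocks
import Cfsg.Agent.Helper17.ShiftRank
import Cfsg.Agent.Helper21.BlockRank

set_option autoImplicit false

open Matrix

namespace Cfsg.Agent.Helper17

theorem js_sum_ite_val_eq {F : Type*} [Field F] (m n : ℕ) (f : Fin m → F) :
    (∑ b : Fin m, if (b : ℕ) = n then f b else 0) = if h : n < m then f ⟨n, h⟩ else 0 := by
  by_cases h : n < m
  · rw [dif_pos h, Finset.sum_eq_single (⟨n, h⟩ : Fin m)]
    · rw [if_pos rfl]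
    · intro b _ hb
      rw [if_neg (fun e => hb (Fin.ext e))]
    · intro hh
      exact absurd (Finset.mem_univ _) hh
  · rw [dif_neg h]
    apply Finset.sum_eq_zero
    intro b _
    rw [if_neg (by have := b.2; omega)]

/-- the antidiagonal permutation matrix -/
def jsR (m : ℕ) (F : Type*) [Field F] : Matrix (Fin m) (Fin m) F :=
  Matrix.of fun a b => if (b : ℕ) = m - 1 - (a : ℕ) then 1 else 0

theorem jsR_apply {F : Type*} [Field F] (m : ℕ) (a b : Fin m) :
    jsR m F a b = if (b : ℕ) = m - 1 - (a : ℕ) then 1 else 0 := rfl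

theorem jsR_apply' {F : Type*} [Field F] (m : ℕ) (a b : Fin m) :
    jsR m F a b = if (a : ℕ) = m - 1 - (b : ℕ) then 1 else 0 := by
  rw [jsR_apply]
  exact if_congr (by have := a.2; have := b.2; omega) rfl rfl

theorem jsR_transpose {F : Type*} [Field F] (m : ℕ) : (jsR m F)ᵀ = jsR m F := by
  ext a b
  rw [Matrix.transpose_apply, jsR_apply' m b a, jsR_apply m a b]

theorem jsR_mul_self {F : Type*} [Field F] (m : ℕ) : jsR m F * jsR m F = 1 := by
  ext a c
  rw [Matrix.mul_apply, Matrix.one_apply]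
  have e : ∀ b : Fin m, jsR m F a b * jsR m F b c
      = if (b : ℕ) = m - 1 - (a : ℕ) then jsR m F b c else 0 := by
    intro b
    rw [jsR_apply m a b, ite_mul, one_mul, zero_mul]
  rw [Finset.sum_congr rfl (fun b _ => e b), js_sum_ite_val_eq]
  have ha : m - 1 - (a : ℕ) < m := by have := a.2; omega
  rw [dif_pos ha, jsR_apply]
  show (if (c : ℕ) = m - 1 - (m - 1 - (a : ℕ)) then (1 : F) else 0) = if a = c then 1 else 0
  exact if_congr (by rw [Fin.ext_iff]; have := a.2; omega) rfl rfl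

theorem jsS_transpose_mul_R {F : Type*} [Field F] (m : ℕ) :
    (Cfsg.jordanBlock m F - 1)ᵀ * jsR m F = jsR m F * (Cfsg.jordanBlock m F - 1) := by
  ext a c
  rw [Matrix.mul_apply, Matrix.mul_apply]
  have e1 : ∀ b : Fin m, (Cfsg.jordanBlock m F - 1)ᵀ a b * jsR m F b c
      = if (b : ℕ) = (a : ℕ) + 1 then jsR m F b c else 0 := by
    intro b
    rw [Matrix.transpose_apply, jb_sub_one_apply, ite_mul, one_mul, zero_mul]
  have e2 : ∀ b : Fin m, jsR m F a b * (Cfsg.jordanBlock m F - 1) b c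
      = if (b : ℕ) = m - 1 - (a : ℕ) then (Cfsg.jordanBlock m F - 1) b c else 0 := by
    intro b
    rw [jsR_apply m a b, ite_mul, one_mul, zero_mul]
  rw [Finset.sum_congr rfl (fun b _ => e1 b), Finset.sum_congr rfl (fun b _ => e2 b),
    js_sum_ite_val_eq, js_sum_ite_val_eq]
  have ha : m - 1 - (a : ℕ) < m := by have := a.2; omega
  rw [dif_pos ha]
  by_cases h : (a : ℕ) + 1 < m
  · rw [dif_pos h, jsR_apply, jb_sub_one_apply]
    show (if (c : ℕ) = m - 1 - ((a : ℕ) + 1) then (1 : F) else 0)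
      = if m - 1 - (a : ℕ) = (c : ℕ) + 1 then 1 else 0
    exact if_congr (by have := c.2; omega) rfl rfl
  · rw [dif_neg h, jb_sub_one_apply]
    show (0 : F) = if m - 1 - (a : ℕ) = (c : ℕ) + 1 then 1 else 0
    rw [if_neg (by have := a.2; omega)]

theorem even_block_form_alt {F : Type*} [Field F] (m : ℕ) :
    ∃ A M : Matrix (Fin m ⊕ Fin m) (Fin m ⊕ Fin m) F, (∀ v, v ⬝ᵥ M *ᵥ v = 0) ∧ M.det ≠ 0 ∧
      Aᵀ * M * A = M ∧ ∀ k, ((A - 1) ^ k).rank = 2 * m - k := by
  obtain ⟨S, hSdef⟩ : ∃ S : Matrix (Fin m) (Fin m) F, S = Cfsg.jordanBlock m F - 1 := ⟨_, rfl⟩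
  obtain ⟨R, hRdef⟩ : ∃ R : Matrix (Fin m) (Fin m) F, R = jsR m F := ⟨_, rfl⟩
  have hRT : Rᵀ = R := by rw [hRdef]; exact jsR_transpose m
  have hRR : R * R = 1 := by rw [hRdef]; exact jsR_mul_self m
  have hSR : Sᵀ * R = R * S := by rw [hSdef, hRdef]; exact jsS_transpose_mul_R m
  have hSrank : ∀ i, (S ^ i).rank = m - i := by
    intro i; rw [hSdef]; exact jb_sub_one_pow_rank m i
  refine ⟨fromBlocks 1 S 1 (1 + S), fromBlocks 0 R (-R) 0, ?_, ?_, ?_, ?_⟩
  · intro v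
    have key : ∀ (v₁ v₂ : Fin m → F),
        Sum.elim v₁ v₂ ⬝ᵥ (fromBlocks 0 R (-R) 0 *ᵥ Sum.elim v₁ v₂) = 0 := by
      intro v₁ v₂
      rw [Matrix.fromBlocks_mulVec, sumElim_dotProduct_sumElim]
      simp only [Sum.elim_comp_inl, Sum.elim_comp_inr, Matrix.zero_mulVec, zero_add, add_zero,
        Matrix.neg_mulVec, dotProduct_neg]
      have h1 : v₂ ⬝ᵥ R *ᵥ v₁ = v₁ ⬝ᵥ R *ᵥ v₂ := by
        rw [Matrix.dotProduct_mulVec, ← Matrix.mulVec_transpose, hRT, dotProduct_comm]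
      rw [h1, add_neg_cancel]
    have h := key (v ∘ Sum.inl) (v ∘ Sum.inr)
    rwa [Sum.elim_comp_inl_inr] at h
  · have hMM : fromBlocks 0 R (-R) 0 * fromBlocks 0 R (-R) 0
        = (-1 : Matrix (Fin m ⊕ Fin m) (Fin m ⊕ Fin m) F) := by
      rw [Matrix.fromBlocks_multiply, ← Matrix.fromBlocks_one, Matrix.fromBlocks_neg]
      refine Matrix.fromBlocks_inj.mpr ⟨?_, ?_, ?_, ?_⟩ <;> simp [hRR]
    intro h0
    have h1 := congrArg Matrix.det hMM
    rw [Matrix.det_mul, h0, zero_mul, Matrix.det_neg, Matrix.det_one, mul_one] at h1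
    exact (pow_ne_zero _ (neg_ne_zero.mpr one_ne_zero)) h1.symm
  · rw [Matrix.fromBlocks_transpose, Matrix.fromBlocks_multiply, Matrix.fromBlocks_multiply]
    simp only [Matrix.transpose_one, Matrix.transpose_add]
    refine Matrix.fromBlocks_inj.mpr ⟨?_, ?_, ?_, ?_⟩
    · noncomm_ring
    · noncomm_ring
    · noncomm_ring
    · have e : (Sᵀ * 0 + (1 + Sᵀ) * -R) * S + (Sᵀ * R + (1 + Sᵀ) * 0) * (1 + S)
          = Sᵀ * R - R * S := by noncomm_ring
      rw [e, hSR, sub_self]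
  · intro k
    have hN : fromBlocks (1 : Matrix (Fin m) (Fin m) F) S 1 (1 + S) - 1 = fromBlocks 0 S 1 S := by
      rw [← Matrix.fromBlocks_one, sub_eq_add_neg, Matrix.fromBlocks_neg, Matrix.fromBlocks_add]
      refine Matrix.fromBlocks_inj.mpr ⟨?_, ?_, ?_, ?_⟩
      · simp
      · simp
      · simp
      · abel
    rw [hN]
    obtain ⟨N, hNdef⟩ : ∃ N : Matrix (Fin m ⊕ Fin m) (Fin m ⊕ Fin m) F,
        N = fromBlocks 0 S 1 S := ⟨_, rfl⟩
    obtain ⟨Sg, hSg⟩ : ∃ Sg : Matrix (Fin m ⊕ Fin m) (Fin m ⊕ Fin m) F,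
        Sg = fromBlocks S 0 0 S := ⟨_, rfl⟩
    obtain ⟨A, hAdef⟩ : ∃ A : Matrix (Fin m ⊕ Fin m) (Fin m ⊕ Fin m) F,
        A = fromBlocks 1 S 1 (1 + S) := ⟨_, rfl⟩
    rw [← hNdef]
    have hNN : N * N = Sg * A := by
      rw [hNdef, hSg, hAdef, Matrix.fromBlocks_multiply, Matrix.fromBlocks_multiply]
      refine Matrix.fromBlocks_inj.mpr ⟨?_, ?_, ?_, ?_⟩ <;> noncomm_ring
    have hSgN : Sg * N = N * Sg := by
      rw [hNdef, hSg, Matrix.fromBlocks_multiply, Matrix.fromBlocks_multiply]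
      refine Matrix.fromBlocks_inj.mpr ⟨?_, ?_, ?_, ?_⟩ <;> noncomm_ring
    have hA1 : A = N + 1 := by
      rw [hAdef, hNdef, ← Matrix.fromBlocks_one, Matrix.fromBlocks_add]
      refine Matrix.fromBlocks_inj.mpr ⟨?_, ?_, ?_, ?_⟩ <;> abel
    have hcomm : Commute Sg A := by
      rw [hA1]
      exact (show Commute Sg N from hSgN).add_right (Commute.one_right Sg)
    have hdetA : A.det = 1 := by
      rw [hAdef, Matrix.det_fromBlocks_one₁₁]
      simp
    have hAunit : ∀ i : ℕ, IsUnit (A ^ i).det := by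
      intro i
      rw [Matrix.det_pow, hdetA, one_pow]
      exact isUnit_one
    have hSgpow : ∀ i : ℕ, Sg ^ i = fromBlocks (S ^ i) 0 0 (S ^ i) := by
      intro i
      induction i with
      | zero => rw [pow_zero, pow_zero, Matrix.fromBlocks_one]
      | succ i ih =>
        rw [pow_succ, ih, hSg, Matrix.fromBlocks_multiply]
        refine Matrix.fromBlocks_inj.mpr ⟨?_, ?_, ?_, ?_⟩ <;> simp [pow_succ]
    have heven : ∀ i : ℕ, (N ^ (2 * i)).rank = (m - i) + (m - i) := by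
      intro i
      rw [pow_mul, pow_two, hNN, hcomm.mul_pow,
        Matrix.rank_mul_eq_left_of_isUnit_det (A ^ i) (Sg ^ i) (hAunit i), hSgpow,
        Cfsg.Agent.Helper21.br21_rank_fromBlocks, hSrank]
    have hVunit : IsUnit (fromBlocks 0 1 1 1 : Matrix (Fin m ⊕ Fin m) (Fin m ⊕ Fin m) F).det := by
      apply Matrix.isUnit_det_of_right_inverse
        (B := (fromBlocks (-1) 1 1 0 : Matrix (Fin m ⊕ Fin m) (Fin m ⊕ Fin m) F))
      rw [Matrix.fromBlocks_multiply, ← Matrix.fromBlocks_one]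
      refine Matrix.fromBlocks_inj.mpr ⟨?_, ?_, ?_, ?_⟩ <;> simp
    have hodd : ∀ i : ℕ, (N ^ (2 * i + 1)).rank = (m - i) + (m - (i + 1)) := by
      intro i
      have e1 : N ^ (2 * i + 1) = (N * Sg ^ i) * A ^ i := by
        rw [pow_succ', pow_mul, pow_two, hNN, hcomm.mul_pow, Matrix.mul_assoc]
      have e2 : N * Sg ^ i = (fromBlocks 0 1 1 1 : Matrix (Fin m ⊕ Fin m) (Fin m ⊕ Fin m) F)
          * fromBlocks (S ^ i) 0 0 (S ^ (i + 1)) := by
        rw [hSgpow, hNdef, Matrix.fromBlocks_multiply, Matrix.fromBlocks_multiply]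
        refine Matrix.fromBlocks_inj.mpr ⟨?_, ?_, ?_, ?_⟩ <;> simp [pow_succ']
      rw [e1, Matrix.rank_mul_eq_left_of_isUnit_det (A ^ i) (N * Sg ^ i) (hAunit i), e2,
        Matrix.rank_mul_eq_right_of_isUnit_det _ _ hVunit,
        Cfsg.Agent.Helper21.br21_rank_fromBlocks, hSrank, hSrank]
    rcases Nat.even_or_odd' k with ⟨i, rfl | rfl⟩
    · rw [heven i]; omega
    · rw [hodd i]; omega

end Cfsg.Agent.Helper17
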