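import Mathlib

set_option autoImplicit false

namespace Cfsg.Agent.Helper17

theorem not_isCyclic_of_two {E : Type*} [Group E] [Finite E] {p : ℕ} (hp : 0 < p) (a b : E)
    (ha : orderOf a = p) (hb : b ^ p = 1) (hba : b ∉ Subgroup.zpowers a) : ¬ IsCyclic E := by
  classical
  intro hc
  haveI : Fintype E := Fintype.ofFinite E
  have h1 := IsCyclic.card_pow_eq_one_le (α := E) hp
  have h2 : insert b ((Subgroup.zpowers a : Set E).toFinset) ⊆
      Finset.univ.filter (fun x : E => x ^ p = 1) := by
    intro y hy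
    rw [Finset.mem_filter]
    refine ⟨Finset.mem_univ _, ?_⟩
    rcases Finset.mem_insert.mp hy with rfl | hy
    · exact hb
    · rw [Set.mem_toFinset] at hy
      obtain ⟨k, rfl⟩ := Subgroup.mem_zpowers_iff.mp hy
      rw [← zpow_natCast, ← zpow_mul, mul_comm, zpow_mul, zpow_natCast, ← ha, pow_orderOf_eq_one,
        one_zpow]
  have h3 := Finset.card_le_card h2
  rw [Finset.card_insert_of_notMem (by rw [Set.mem_toFinset]; exact hba)] at h3
  have h4 : ((Subgroup.zpowers a : Set E).toFinset).card = p := by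
    rw [Set.toFinset_card, ← Nat.card_eq_fintype_card, ← ha]; exact Nat.card_zpowers a
  omega

theorem closure_pair_comm {G : Type*} [Group G] {a b : G} (hab : a * b = b * a) :
    ∀ x ∈ Subgroup.closure ({a, b} : Set G), ∀ y ∈ Subgroup.closure ({a, b} : Set G),
      x * y = y * x := by
  intro x hx y hy
  have hk : ∀ x ∈ ({a, b} : Set G), ∀ y ∈ ({a, b} : Set G), x * y = y * x := by
    rintro x (rfl | rfl) y (rfl | rfl)
    · rfl
    · exact hab
    · exact hab.symm
    · rfl
  haveI := Subgroup.isMulCommutative_closure hk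
  exact congrArg Subtype.val (mul_comm' (⟨x, hx⟩ : Subgroup.closure ({a, b} : Set G)) ⟨y, hy⟩)

end Cfsg.Agent.Helper17
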