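import Mathlib
import Cfsg.Agent.Helper17.Npc2
import Cfsg.Agent.Helper12.AlpInd
import Cfsg.Agent.Helper12.PRes

set_option autoImplicit false

namespace Cfsg.Agent.Helper17

open Subgroup

variable {G : Type*} [Group G]

theorem npc_local_claim [Finite G] {p : ℕ} [hp : Fact p.Prime]
    (hmin : ∀ q : ℕ, q.Prime → q ∣ Nat.card G → p ≤ q) (P : Subgroup G) (hP : IsPGroup p P)
    (k : ℕ) (hk : 1 ≤ k)
    (hSC : ∀ E : Subgroup G, E ≤ P → Nat.card E = p ^ k → SCin P E)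
    (hSC4 : p = 2 → k = 1 → ∀ E : Subgroup G, E ≤ P → Nat.card E = 4 → SCin P E)
    (M : Subgroup G) (hMP : M ≤ P) (hMn : P ≤ normalizer (M : Set G))
    (hMi : M.relIndex P = p) (hMk : p ^ k ∣ Nat.card M)
    (U : Subgroup G) (hUP : U ≤ P)
    (htame : ¬ p ∣ P.relIndex (normalizer (U : Set G)))
    (h : G) (hh : h ∈ normalizer (U : Set G)) (a : G) (ha : a ∈ U) :
    a⁻¹ * (h⁻¹ * a * h) ∈ M := by
  have hUp : IsPGroup p U := hP.to_le hUP
  have hco : ∀ g : G, (orderOf g).Coprime (p - 1) := npc_coprime_pred hmin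
  obtain ⟨j, hj⟩ : ∃ j, Nat.card (U ⊓ M : Subgroup G) = p ^ j :=
    IsPGroup.iff_card.mp (hUp.to_le inf_le_left)
  rcases Nat.lt_or_ge k j with hkj | hjk
  · have hUk : p ^ (k + 1) ∣ Nat.card U := by
      have h1 : p ^ (k + 1) ∣ p ^ j := pow_dvd_pow p hkj
      rw [← hj] at h1
      exact h1.trans (card_dvd_of_le inf_le_left)
    have hcent : ∀ g ∈ normalizer (U : Set G), (orderOf g).Coprime p →
        g ∈ centralizer (U : Set G) := by
      intro g hg hcop
      rw [mem_centralizer_iff]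
      intro x hx
      have h1 := npc_pprime_cent P hP k hk hSC hSC4 U hUP hUk g hg hcop (hco g) x hx
      calc x * g = (g * x * g⁻¹) * g := by rw [h1]
        _ = g * x := by group
    obtain ⟨s, hs, o, ho, hso⟩ := Helper12.exists_mul_pRes_sub htame hh
    have hoC : o ∈ centralizer (U : Set G) := by
      obtain ⟨o', ho', rfl⟩ := ho
      have hle : Cfsg.pResidual p ↥(normalizer (U : Set G)) ≤
          (centralizer (U : Set G)).subgroupOf (normalizer (U : Set G)) := by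
        unfold Cfsg.pResidual
        rw [closure_le]
        intro g hg
        rw [SetLike.mem_coe, mem_subgroupOf]
        apply hcent _ g.2
        rw [Subgroup.orderOf_coe]
        exact hg
      exact mem_subgroupOf.mp (hle ho')
    have hsP : s ∈ P := (mem_inf.mp hs).1
    have hsN : s ∈ normalizer (U : Set G) := (mem_inf.mp hs).2
    have hsa : s⁻¹ * a * s ∈ U := by
      have h1 := (mem_normalizer_iff.mp (inv_mem hsN) a).mp ha
      rwa [inv_inv] at h1
    have hcomm := mem_centralizer_iff.mp hoC _ hsa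
    have e : a⁻¹ * (h⁻¹ * a * h) = a⁻¹ * (s⁻¹ * a * s⁻¹⁻¹) := by
      rw [hso, inv_inv]
      calc a⁻¹ * ((s * o)⁻¹ * a * (s * o)) = a⁻¹ * (o⁻¹ * ((s⁻¹ * a * s) * o)) := by group
        _ = a⁻¹ * (o⁻¹ * (o * (s⁻¹ * a * s))) := by rw [hcomm]
        _ = a⁻¹ * (s⁻¹ * a * s) := by group
    rw [e]
    exact npc_quot_step P M hMP hMn (by rw [hMi]) s⁻¹ (le_normalizer (inv_mem hsP))
      (hMn (inv_mem hsP)) (hco _) a (hUP ha)
  · obtain ⟨E, hKE, hEM, hEc⟩ := npc_exists_between M (U ⊓ M) inf_le_right hj hjk hMk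
    have hEsc := hSC E (hEM.trans hMP) hEc
    have hKeq : U ⊓ M = U ⊓ E := le_antisymm (le_inf inf_le_left hKE) (inf_le_inf_left U hEM)
    have hhK : h⁻¹ ∈ normalizer ((U ⊓ M : Subgroup G) : Set G) := by
      apply mem_normalizer_fintype
      intro n hn
      have hn' : n ∈ U ⊓ E := by rw [← hKeq]; exact hn
      have h1 : h⁻¹ * n * h⁻¹⁻¹ ∈ U :=
        (mem_normalizer_iff.mp (inv_mem hh) n).mp (mem_inf.mp hn').1
      have h2 := hEsc n (mem_inf.mp hn').2 h⁻¹ (hUP h1)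
      show h⁻¹ * n * h⁻¹⁻¹ ∈ U ⊓ M
      rw [hKeq]
      exact mem_inf.mpr ⟨h1, h2⟩
    have hUn : U ≤ normalizer ((U ⊓ M : Subgroup G) : Set G) := by
      intro u hu
      apply mem_normalizer_fintype
      intro n hn
      exact mem_inf.mpr ⟨U.mul_mem (U.mul_mem hu (mem_inf.mp hn).1) (U.inv_mem hu),
        (mem_normalizer_iff.mp (hMn (hUP hu)) n).mp (mem_inf.mp hn).2⟩
    have hidx : (U ⊓ M).relIndex U ∣ p := by
      rw [inf_relIndex_left]
      haveI : (M.subgroupOf P).Normal := (normal_subgroupOf_iff_le_normalizer hMP).mpr hMn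
      have h1 := relIndex_dvd_index_of_normal (M.subgroupOf P) (U.subgroupOf P)
      rw [relIndex_subgroupOf hUP] at h1
      rw [← hMi]
      exact h1
    have h3 := npc_quot_step U (U ⊓ M) inf_le_left hUn hidx h⁻¹ (inv_mem hh) hhK (hco _) a ha
    rw [inv_inv] at h3
    exact (mem_inf.mp h3).2

theorem npc_fusion_inv [Finite G] {p : ℕ} [hp : Fact p.Prime]
    (hmin : ∀ q : ℕ, q.Prime → q ∣ Nat.card G → p ≤ q) (P : Sylow p G)
    (k : ℕ) (hk : 1 ≤ k)
    (hSC : ∀ E : Subgroup G, E ≤ (P : Subgroup G) → Nat.card E = p ^ k →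
      SCin (P : Subgroup G) E)
    (hSC4 : p = 2 → k = 1 → ∀ E : Subgroup G, E ≤ (P : Subgroup G) → Nat.card E = 4 →
      SCin (P : Subgroup G) E)
    (M : Subgroup G) (hMP : M ≤ (P : Subgroup G))
    (hMn : (P : Subgroup G) ≤ normalizer (M : Set G))
    (hMi : M.relIndex (P : Subgroup G) = p) (hMk : p ^ k ∣ Nat.card M) :
    ∀ (a g : G), a ∈ (P : Subgroup G) → g⁻¹ * a * g ∈ (P : Subgroup G) →
      a⁻¹ * (g⁻¹ * a * g) ∈ M := by
  have key := Helper12.alperin_induction_set P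
    (fun (A : Set G) (g : G) => ∀ a ∈ A, a⁻¹ * (g⁻¹ * a * g) ∈ M)
    (fun A B g h hBA a ha => h a (hBA ha))
    (fun A g h h1 h2 a ha => by
      have e : a⁻¹ * ((g * h)⁻¹ * a * (g * h)) =
          (a⁻¹ * (g⁻¹ * a * g)) * ((g⁻¹ * a * g)⁻¹ * (h⁻¹ * (g⁻¹ * a * g) * h)) := by group
      rw [e]
      exact M.mul_mem (h1 a ha) (h2 _ ⟨a, ha, rfl⟩))
    (fun A g h b hb => by
      obtain ⟨a, ha, rfl⟩ := hb
      have e : (g⁻¹ * a * g)⁻¹ * (g⁻¹⁻¹ * (g⁻¹ * a * g) * g⁻¹) =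
          (a⁻¹ * (g⁻¹ * a * g))⁻¹ := by group
      rw [e]
      exact M.inv_mem (h a ha))
    Set.univ
    (fun T hT => by
      obtain ⟨g, hg1, hg2⟩ := Helper12.exists_fully_normalized P (P.isPGroup'.to_le hT)
      exact ⟨_, Set.mem_univ _, hg1, ⟨g, rfl⟩, hg2⟩)
    (fun U _ hUP htame _ h hh a ha => by
      rw [inf_relIndex_right] at htame
      exact npc_local_claim hmin P P.isPGroup' k hk hSC hSC4 M hMP hMn hMi hMk U hUP htame
        h hh a ha)
  intro a g ha hg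
  refine key {a} g ?_ ?_ a rfl
  · intro b hb
    rw [Set.mem_singleton_iff] at hb
    rw [hb]; exact ha
  · rintro _ ⟨b, hb, rfl⟩
    rw [Set.mem_singleton_iff] at hb
    rw [hb]; exact hg

end Cfsg.Agent.Helper17
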