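import Mathlib
import Cfsg.Agent.Helper17.Npc3
import Cfsg.Agent.Helper12.Syl
import Cfsg.Agent.Lead.Tate
import Cfsg.Agent.Lead.Transfer

set_option autoImplicit false

namespace Cfsg.Agent.Helper17

open Subgroup

variable {G : Type*} [Group G]

/-- A fusion-invariant homomorphism from a Sylow `p`-subgroup to a group of order `p` extends
to the whole group. -/
theorem npc_exists_extension [Finite G] {p : ℕ} [hp : Fact p.Prime] (P : Sylow p G)
    {A : Type*} [CommGroup A] (hA : Nat.card A = p) (ε : ↥(P : Subgroup G) →* A)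
    (hinv : ∀ (a g : G) (ha : a ∈ (P : Subgroup G)) (hg : g⁻¹ * a * g ∈ (P : Subgroup G)),
      ε ⟨g⁻¹ * a * g, hg⟩ = ε ⟨a, ha⟩) :
    ∃ ε' : G →* A, ∀ h : ↥(P : Subgroup G), ε' (h : G) = ε h := by
  have hAp : ∀ x : A, x ^ p = 1 := fun x => by
    have h1 := pow_card_eq_one' (x := x)
    rwa [hA] at h1
  have hV : ∀ (z : G) (hz : z ∈ (P : Subgroup G)),
      MonoidHom.transfer ε z = ε ⟨z, hz⟩ ^ (P : Subgroup G).index := by
    intro z hz
    have : Fintype (Quotient (MulAction.orbitRel (Subgroup.zpowers z) (G ⧸ (P : Subgroup G)))) :=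
      Fintype.ofFinite _
    rw [Subgroup.index_eq_sum_minimalPeriod (P : Subgroup G) z, ← Finset.prod_pow_eq_pow_sum,
      MonoidHom.transfer_eq_prod_quotient_orbitRel_zpowers_quot]
    apply Finset.prod_congr rfl
    intro q _
    have h1 := hinv (z ^ Function.minimalPeriod (z • ·) q.out) q.out.out (pow_mem hz _)
      (QuotientGroup.out_conj_pow_minimalPeriod_mem (P : Subgroup G) z q.out)
    rw [h1, ← map_pow]
    rfl
  have hcop : ((P : Subgroup G).index).Coprime p :=
    ((Nat.Prime.coprime_iff_not_dvd hp.out).mpr P.not_dvd_index).symm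
  obtain ⟨j, -, hj⟩ := Nat.exists_mul_mod_eq_one_of_coprime hcop hp.out.one_lt
  refine ⟨(powMonoidHom j).comp (MonoidHom.transfer ε), fun h => ?_⟩
  show (MonoidHom.transfer ε (h : G)) ^ j = ε h
  rw [hV _ h.2, ← pow_mul, pow_eq_pow_mod _ (hAp _), hj, pow_one]

theorem npc_of_fusion_inv [Finite G] {p : ℕ} [hp : Fact p.Prime] (P : Sylow p G)
    (hfus : ∀ M : Subgroup G, M ≤ (P : Subgroup G) →
      (P : Subgroup G) ≤ normalizer (M : Set G) → M.relIndex (P : Subgroup G) = p →
      ∀ (a g : G), a ∈ (P : Subgroup G) → g⁻¹ * a * g ∈ (P : Subgroup G) →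
        a⁻¹ * (g⁻¹ * a * g) ∈ M) :
    Cfsg.HasNormalPComplement p G := by
  have hA : Nat.card (Multiplicative (ZMod p)) = p := by
    rw [Nat.card_eq_fintype_card, Fintype.card_multiplicative, ZMod.card]
  have hext : ∀ ε : ↥(P : Subgroup G) →* Multiplicative (ZMod p),
      ∃ ε' : G →* Multiplicative (ZMod p), ∀ h : ↥(P : Subgroup G), ε' (h : G) = ε h := by
    intro ε
    by_cases hker : ε.ker = ⊤
    · refine ⟨1, fun h => ?_⟩
      have h1 : h ∈ ε.ker := by rw [hker]; exact mem_top h
      rw [MonoidHom.one_apply]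
      exact (MonoidHom.mem_ker.mp h1).symm
    · have hidx : ε.ker.index = p := by
        rw [index_ker]
        have h1 : Nat.card ε.range ∣ p := by
          have h0 := card_subgroup_dvd_card ε.range
          rwa [hA] at h0
        rcases (Nat.dvd_prime hp.out).mp h1 with h2 | h2
        · exfalso
          apply hker
          rw [Subgroup.card_eq_one, MonoidHom.range_eq_bot_iff] at h2
          rw [h2]
          exact MonoidHom.ker_one
        · exact h2
      apply npc_exists_extension P hA ε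
      intro a g ha hg
      have h1 := hfus (ε.ker.map (P : Subgroup G).subtype) (map_subtype_le _) ?_ ?_ a g ha hg
      · obtain ⟨y, hy, hya⟩ := h1
        have h2 : y = (⟨a, ha⟩ : ↥(P : Subgroup G))⁻¹ * ⟨g⁻¹ * a * g, hg⟩ := Subtype.ext hya
        rw [SetLike.mem_coe, h2, MonoidHom.mem_ker, map_mul, map_inv, inv_mul_eq_one] at hy
        exact hy.symm
      · have h3 := le_normalizer_map (H := ε.ker) (P : Subgroup G).subtype
        rwa [normalizer_eq_top, ← MonoidHom.range_eq_map, range_subtype] at h3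
      · show ((ε.ker.map (P : Subgroup G).subtype).comap (P : Subgroup G).subtype).index = p
        rw [comap_map_eq_self_of_injective (subtype_injective _)]
        exact hidx
  have hcop : ((P : Subgroup G).index).Coprime p :=
    ((Nat.Prime.coprime_iff_not_dvd hp.out).mpr P.not_dvd_index).symm
  have htate := Lead.tate hA (P : Subgroup G) hcop hext
  have hbot : Cfsg.pResidual p ↥(P : Subgroup G) = ⊥ := by
    unfold Cfsg.pResidual
    rw [closure_eq_bot_iff]
    intro g hg
    obtain ⟨n, hn⟩ := P.isPGroup' g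
    have h1 : orderOf g ∣ p ^ n := orderOf_dvd_of_pow_eq_one hn
    have h2 : orderOf g = 1 := Nat.Coprime.eq_one_of_dvd (Nat.Coprime.pow_right n hg) h1
    exact orderOf_eq_one_iff.mp h2
  haveI hnorm : (Cfsg.pResidual p G).Normal := Lead.pResidual_normal p G
  apply Lead.npc_of_normal_coprime (Cfsg.pResidual p G) ?_ (Lead.isPGroup_quotient_pResidual p)
  intro hdvd
  obtain ⟨x, hx⟩ := exists_prime_orderOf_dvd_card' p hdvd
  have hzp : IsPGroup p (zpowers (x : G)) := by
    have h1 : Nat.card (zpowers (x : G)) = p ^ 1 := by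
      rw [Nat.card_zpowers, Subgroup.orderOf_coe, hx, pow_one]
    exact IsPGroup.of_card h1
  obtain ⟨c, hc⟩ := Helper12.exists_conj_mem_sylow P hzp
  have h1 := hc (x : G) (mem_zpowers _)
  have h2 : c * (x : G) * c⁻¹ ∈ Cfsg.pResidual p G := hnorm.conj_mem _ x.2 c
  have h3 : (⟨c * (x : G) * c⁻¹, h1⟩ : ↥(P : Subgroup G)) ∈
      (Cfsg.pResidual p G).subgroupOf (P : Subgroup G) := mem_subgroupOf.mpr h2
  have h4 := htate h3
  rw [hbot, mem_bot] at h4
  have h5 : c * (x : G) * c⁻¹ = 1 := congrArg Subtype.val h4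
  have h6 : (x : G) = 1 := by
    have : (x : G) = c⁻¹ * (c * (x : G) * c⁻¹) * c := by group
    rw [this, h5]; group
  have h7 : orderOf x = 1 := by
    rw [orderOf_eq_one_iff]
    exact Subtype.ext h6
  rw [hx] at h7
  exact hp.out.one_lt.ne' h7

theorem npc_of_cyclic [Finite G] {p : ℕ} [hp : Fact p.Prime]
    (hmin : ∀ q : ℕ, q.Prime → q ∣ Nat.card G → p ≤ q) (P : Sylow p G)
    [IsCyclic ↥(P : Subgroup G)] : Cfsg.HasNormalPComplement p G := by
  apply Lead.burnside_npc P
  intro n hn
  obtain ⟨c, a, k, hc, ha, hnca, hck, hacop⟩ := Lead.exists_p_decomp p n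
  have hcN : c ∈ normalizer ((P : Subgroup G) : Set G) := (zpowers_le.mpr hn) hc
  have haN : a ∈ normalizer ((P : Subgroup G) : Set G) := (zpowers_le.mpr hn) ha
  have hcP : c ∈ (P : Subgroup G) := Lead.mem_sylow_of_mem_normalizer P c k hck hcN
  rw [mem_centralizer_iff]
  intro x hx
  have h1 := npc_cyc_cent (P : Subgroup G) P.isPGroup' a haN hacop (npc_coprime_pred hmin a) x hx
  have h2 : c * x = x * c := by
    letI := IsCyclic.commGroup (α := ↥(P : Subgroup G))
    have h3 := mul_comm (⟨c, hcP⟩ : ↥(P : Subgroup G)) ⟨x, hx⟩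
    exact congrArg Subtype.val h3
  have h3 : a * x = x * a := by
    calc a * x = (a * x * a⁻¹) * a := by group
      _ = x * a := by rw [h1]
  rw [hnca, ← mul_assoc, ← h2, mul_assoc, ← h3, mul_assoc]

end Cfsg.Agent.Helper17
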