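import Mathlib
import Cfsg.Prelude.Def_SylowChains
import Cfsg.Prelude.Def_Local
import Cfsg.Agent.Helper17.SylIn
import Cfsg.Agent.Helper17.CharP
import Cfsg.Agent.Helper17.RelSylow
import Cfsg.Agent.Helper1.GenCent
import Cfsg.Agent.Helper1.Quat
import Cfsg.Agent.Helper8.QuatFacts
import Cfsg.Agent.Helper16.PIrreducible
import Cfsg.Agent.Helper20.PSolvHall

set_option autoImplicit false

namespace Cfsg.Agent.Helper17

open Cfsg

universe u

variable {G : Type u} [Group G] {p : ℕ}

/-- adjacency of Sylow subgroups: distinct with nontrivial intersection -/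
def sylAdj (p : ℕ) (S T : Sylow p G) : Prop :=
  S ≠ T ∧ (S : Subgroup G) ⊓ (T : Subgroup G) ≠ ⊥

theorem sylAdj_symm {S T : Sylow p G} (h : sylAdj p S T) : sylAdj p T S :=
  ⟨h.1.symm, by rw [inf_comm]; exact h.2⟩

theorem exists_mem_ne_one_of_ne_bot' {H : Subgroup G} (h : H ≠ ⊥) : ∃ x ∈ H, x ≠ 1 := by
  by_contra hcon
  push Not at hcon
  apply h
  rw [eq_bot_iff]
  intro x hx
  rw [Subgroup.mem_bot]
  exact hcon x hx

theorem mem_sylow_smul_iff (g : G) (S : Sylow p G) (x : G) :
    x ∈ ((g • S : Sylow p G) : Subgroup G) ↔ g⁻¹ * x * g ∈ (S : Subgroup G) := by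
  rw [sylow_smul_coe, mem_map_conj]

theorem sylAdj_smul (g : G) {S T : Sylow p G} (h : sylAdj p S T) :
    sylAdj p (g • S) (g • T) := by
  refine ⟨fun heq => h.1 (smul_left_cancel g heq), ?_⟩
  obtain ⟨x, hx, hx1⟩ := exists_mem_ne_one_of_ne_bot' h.2
  intro hbot
  have h1 : g * x * g⁻¹ ∈ ((g • S : Sylow p G) : Subgroup G) ⊓ ((g • T : Sylow p G) : Subgroup G) := by
    rw [Subgroup.mem_inf, mem_sylow_smul_iff, mem_sylow_smul_iff]
    have e : g⁻¹ * (g * x * g⁻¹) * g = x := by group
    rw [e]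
    exact Subgroup.mem_inf.1 hx
  rw [hbot, Subgroup.mem_bot] at h1
  apply hx1
  have e : x = g⁻¹ * (g * x * g⁻¹) * g := by group
  rw [e, h1]
  group

theorem chain_of_reflTransGen {S T : Sylow p G} (h : Relation.ReflTransGen (sylAdj p) S T) :
    ∃ (n : ℕ) (c : Fin (n + 1) → Sylow p G), c 0 = S ∧ c (Fin.last n) = T ∧
      ∀ i : Fin n, sylAdj p (c i.castSucc) (c i.succ) := by
  induction h with
  | refl => exact ⟨0, fun _ => S, rfl, rfl, fun i => i.elim0⟩
  | @tail T U _ hr ih =>
    obtain ⟨n, c, h0, hl, hc⟩ := ih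
    refine ⟨n + 1, (Fin.snoc c U : Fin (n + 2) → Sylow p G), ?_, ?_, ?_⟩
    · have e : (0 : Fin (n + 2)) = Fin.castSucc (0 : Fin (n + 1)) := rfl
      rw [e, Fin.snoc_castSucc]
      exact h0
    · exact Fin.snoc_last _ _
    · intro i
      refine Fin.lastCases ?_ (fun j => ?_) i
      · rw [Fin.snoc_castSucc, Fin.succ_last, Fin.snoc_last, hl]
        exact hr
      · rw [Fin.snoc_castSucc, ← Fin.castSucc_succ, Fin.snoc_castSucc]
        exact hc j

/-- In a finite cyclic group all elements of order `p` lie in one subgroup of order `p`. -/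
theorem cyclic_unique_order_p {H : Type*} [Group H] [Finite H] [IsCyclic H] [Fact p.Prime]
    (x y : H) (hx : orderOf x = p) (hy : orderOf y = p) : y ∈ Subgroup.zpowers x := by
  classical
  have hpp : p.Prime := Fact.out
  by_contra hy'
  haveI : Fintype H := Fintype.ofFinite H
  have hA : (Finset.univ.filter (fun a : H => a ^ p = 1)).card ≤ p :=
    IsCyclic.card_pow_eq_one_le hpp.pos
  have hB : (insert y ((Subgroup.zpowers x : Set H).toFinset)).card = p + 1 := by
    rw [Finset.card_insert_of_notMem (by rw [Set.mem_toFinset]; exact hy'), Set.toFinset_card,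
      ← Nat.card_eq_fintype_card]
    have := Nat.card_zpowers x
    rw [hx] at this
    exact congrArg (· + 1) this
  have hsub : insert y ((Subgroup.zpowers x : Set H).toFinset) ⊆
      Finset.univ.filter (fun a : H => a ^ p = 1) := by
    intro a ha
    rw [Finset.mem_filter]
    refine ⟨Finset.mem_univ _, ?_⟩
    rw [Finset.mem_insert, Set.mem_toFinset] at ha
    rcases ha with rfl | ha
    · rw [← hy]
      exact pow_orderOf_eq_one a
    · obtain ⟨k, rfl⟩ := Subgroup.mem_zpowers_iff.1 ha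
      rw [← zpow_natCast, ← zpow_mul, mul_comm, zpow_mul, zpow_natCast, ← hx, pow_orderOf_eq_one,
        one_zpow]
  have := Finset.card_le_card hsub
  omega

theorem sup_zpowers_comm {a b : G} (h : a * b = b * a) :
    ∀ u ∈ Subgroup.zpowers a ⊔ Subgroup.zpowers b, ∀ v ∈ Subgroup.zpowers a ⊔ Subgroup.zpowers b,
      u * v = v * u := by
  have hcent : ∀ u ∈ Subgroup.zpowers a ⊔ Subgroup.zpowers b, a * u = u * a ∧ b * u = u * b := by
    intro u hu
    have h1 : Subgroup.zpowers a ⊔ Subgroup.zpowers b ≤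
        Subgroup.centralizer {a} ⊓ Subgroup.centralizer {b} := by
      apply sup_le
      · rw [Subgroup.zpowers_le, Subgroup.mem_inf, Subgroup.mem_centralizer_iff,
          Subgroup.mem_centralizer_iff]
        refine ⟨?_, ?_⟩
        · intro x hx
          rw [Set.mem_singleton_iff] at hx
          subst hx
          rfl
        · intro x hx
          rw [Set.mem_singleton_iff] at hx
          subst hx
          exact h.symm
      · rw [Subgroup.zpowers_le, Subgroup.mem_inf, Subgroup.mem_centralizer_iff,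
          Subgroup.mem_centralizer_iff]
        refine ⟨?_, ?_⟩
        · intro x hx
          rw [Set.mem_singleton_iff] at hx
          subst hx
          exact h
        · intro x hx
          rw [Set.mem_singleton_iff] at hx
          subst hx
          rfl
    have h2 := h1 hu
    rw [Subgroup.mem_inf, Subgroup.mem_centralizer_iff, Subgroup.mem_centralizer_iff] at h2
    exact ⟨h2.1 a rfl, h2.2 b rfl⟩
  intro u hu v hv
  have h1 : Subgroup.zpowers a ⊔ Subgroup.zpowers b ≤ Subgroup.centralizer {u} := by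
    apply sup_le
    · rw [Subgroup.zpowers_le, Subgroup.mem_centralizer_iff]
      intro x hx
      rw [Set.mem_singleton_iff] at hx
      subst hx
      exact ((hcent x hu).1).symm
    · rw [Subgroup.zpowers_le, Subgroup.mem_centralizer_iff]
      intro x hx
      rw [Set.mem_singleton_iff] at hx
      subst hx
      exact ((hcent x hu).2).symm
  exact Subgroup.mem_centralizer_iff.1 (h1 hv) u rfl

/-- a nontrivial element of a `p`-group has a power of order `p` -/
theorem exists_pow_orderOf_eq_prime [Fact p.Prime] {S : Subgroup G} (hS : IsPGroup p S) {y : G}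
    (hy : y ∈ S) (hy1 : y ≠ 1) : ∃ m : ℕ, orderOf (y ^ m) = p := by
  have hpp : p.Prime := Fact.out
  obtain ⟨k, hk⟩ := (IsPGroup.iff_orderOf.1 hS) ⟨y, hy⟩
  rw [Subgroup.orderOf_mk] at hk
  have hk0 : k ≠ 0 := by
    rintro rfl
    rw [pow_zero, orderOf_eq_one_iff] at hk
    exact hy1 hk
  obtain ⟨j, rfl⟩ := Nat.exists_eq_succ_of_ne_zero hk0
  refine ⟨p ^ j, ?_⟩
  rw [orderOf_pow_of_dvd (pow_ne_zero _ hpp.ne_zero) (by rw [hk]; exact pow_dvd_pow p (Nat.le_succ j)),
    hk, pow_succ, Nat.mul_div_cancel_left _ (pow_pos hpp.pos j)]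

/-- If the elements of order `p` of a Sylow subgroup all lie in one subgroup of order `p` and
`O_p(G) = 1`, the Sylow graph is disconnected. -/
theorem not_conn_of_unique [Finite G] [Fact p.Prime] (P : Sylow p G) (hO : Cfsg.pCore p G = ⊥)
    (hdiv : p ∣ Nat.card G)
    (hU : ∀ x ∈ (P : Subgroup G), ∀ y ∈ (P : Subgroup G), orderOf x = p → orderOf y = p →
      ∃ k : ℕ, y = x ^ k) : ¬ Cfsg.IsSylowChainConnected p G := by
  have hpp : p.Prime := Fact.out
  intro hconn
  have hU' : ∀ S : Sylow p G, ∀ x ∈ (S : Subgroup G), ∀ y ∈ (S : Subgroup G), orderOf x = p →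
      orderOf y = p → ∃ k : ℕ, y = x ^ k := by
    intro S x hx y hy hox hoy
    obtain ⟨g, rfl⟩ := MulAction.exists_smul_eq G P S
    rw [mem_sylow_smul_iff] at hx hy
    have h1 : orderOf (g⁻¹ * x * g) = p := by
      have := orderOf_conj_eq g⁻¹ x
      rw [inv_inv] at this
      rw [this, hox]
    have h2 : orderOf (g⁻¹ * y * g) = p := by
      have := orderOf_conj_eq g⁻¹ y
      rw [inv_inv] at this
      rw [this, hoy]
    obtain ⟨k, hk⟩ := hU _ hx _ hy h1 h2
    refine ⟨k, ?_⟩
    have e : y = g * (g⁻¹ * y * g) * g⁻¹ := by group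
    rw [e, hk]
    have e2 : g⁻¹ * x * g = g⁻¹ * x * g⁻¹⁻¹ := by rw [inv_inv]
    rw [e2, conj_pow]
    group
  have hPdvd : p ∣ Nat.card (P : Subgroup G) := P.dvd_card_of_dvd_card hdiv
  obtain ⟨x', hx'⟩ := exists_prime_orderOf_dvd_card' p hPdvd
  obtain ⟨x, hxP, hxo⟩ : ∃ x ∈ (P : Subgroup G), orderOf x = p :=
    ⟨(x' : G), x'.2, by rw [Subgroup.orderOf_coe, hx']⟩
  have hall : ∀ S : Sylow p G, x ∈ (S : Subgroup G) := by
    intro S
    obtain ⟨n, c, h0, hl, _, hadj⟩ := hconn P S
    have hi : ∀ i : Fin (n + 1), x ∈ (c i : Subgroup G) := by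
      intro i
      induction i using Fin.induction with
      | zero => rw [h0]; exact hxP
      | succ i ih =>
        obtain ⟨y, hy, hy1⟩ := exists_mem_ne_one_of_ne_bot' (hadj i).2
        obtain ⟨m, hm⟩ := exists_pow_orderOf_eq_prime (c i.castSucc).2 hy.1 hy1
        obtain ⟨k, hk⟩ := hU' (c i.castSucc) (y ^ m) (Subgroup.pow_mem _ hy.1 m) x ih hm hxo
        rw [hk]
        exact Subgroup.pow_mem _ (Subgroup.pow_mem _ hy.2 m) k
    rw [← hl]
    exact hi (Fin.last n)
  have hN : Subgroup.normalClosure ({x} : Set G) ≤ (P : Subgroup G) := by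
    unfold Subgroup.normalClosure
    rw [Subgroup.closure_le]
    intro a ha
    rw [Group.mem_conjugatesOfSet_iff] at ha
    obtain ⟨b, hb, hconj⟩ := ha
    rw [Set.mem_singleton_iff] at hb
    subst hb
    obtain ⟨c, rfl⟩ := isConj_iff.1 hconj
    have h1 := hall (c⁻¹ • P)
    rw [mem_sylow_smul_iff, inv_inv] at h1
    exact h1
  have h1 : Subgroup.normalClosure ({x} : Set G) ≤ Cfsg.pCore p G :=
    le_pCore' Subgroup.normalClosure_normal (P.2.to_le hN)
  rw [hO] at h1
  have h2 := h1 (Subgroup.subset_normalClosure (Set.mem_singleton x))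
  rw [Subgroup.mem_bot] at h2
  rw [h2, orderOf_one] at hxo
  exact hpp.one_lt.ne hxo

theorem conn_of_pCore_ne_bot [Finite G] [Fact p.Prime] (h : Cfsg.pCore p G ≠ ⊥) :
    Cfsg.IsSylowChainConnected p G := by
  intro S T
  by_cases hST : S = T
  · subst hST
    exact ⟨0, fun _ => S, rfl, rfl, fun _ => inf_le_left, fun i => i.elim0⟩
  · refine ⟨1, ![S, T], rfl, rfl, ?_, ?_⟩
    · intro i
      fin_cases i
      · exact inf_le_left
      · exact inf_le_right
    · intro i
      fin_cases i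
      refine ⟨hST, ?_⟩
      intro hbot
      apply h
      rw [eq_bot_iff]
      have h1 : Cfsg.pCore p G ≤ (S : Subgroup G) ⊓ (T : Subgroup G) :=
        le_inf (Cfsg.Agent.Helper16.pCore_le_sylow S) (Cfsg.Agent.Helper16.pCore_le_sylow T)
      exact h1.trans hbot.le

theorem conn_of_reflTransGen
    (h : ∀ S T : Sylow p G, Relation.ReflTransGen (sylAdj p) S T) :
    Cfsg.IsSylowChainConnected p G := by
  intro S T
  by_cases hST : S = T
  · subst hST
    exact ⟨0, fun _ => S, rfl, rfl, fun _ => inf_le_left, fun i => i.elim0⟩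
  · by_cases hbot : (S : Subgroup G) ⊓ (T : Subgroup G) = ⊥
    · obtain ⟨n, c, h0, hl, hc⟩ := chain_of_reflTransGen (h S T)
      refine ⟨n, c, h0, hl, ?_, hc⟩
      intro i
      rw [hbot]
      exact bot_le
    · refine ⟨1, ![S, T], rfl, rfl, ?_, ?_⟩
      · intro i
        fin_cases i
        · exact inf_le_left
        · exact inf_le_right
      · intro i
        fin_cases i
        exact ⟨hST, hbot⟩

/-- In a `p`-solvable group of order divisible by `p` there are normal subgroups `K ≤ L`,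
`K` a `p'`-group, `L ≠ K` and `L/K` a `p`-group. -/
theorem exists_pprime_p_layer [Finite G] [Fact p.Prime] (hsol : Cfsg.IsPSolvable p G)
    (hdiv : p ∣ Nat.card G) :
    ∃ K L : Subgroup G, K.Normal ∧ L.Normal ∧ K ≤ L ∧ L ≠ K ∧ (Nat.card K).Coprime p ∧
      ∀ x ∈ L, ∃ k : ℕ, x ^ (p ^ k) ∈ K := by
  classical
  have hpp : p.Prime := Fact.out
  obtain ⟨K, hK, hmax⟩ := Set.exists_max_image
    {K : Subgroup G | K.Normal ∧ (Nat.card K).Coprime p} (fun K => Nat.card K) (Set.toFinite _)
    ⟨⊥, Subgroup.normal_bot, by rw [Subgroup.card_bot]; exact Nat.coprime_one_left p⟩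
  haveI hKn : K.Normal := hK.1
  have hKcop : (Nat.card K).Coprime p := hK.2
  haveI : Nontrivial (G ⧸ K) := by
    by_contra hnt
    rw [not_nontrivial_iff_subsingleton] at hnt
    have htop : K = ⊤ := by
      rw [eq_top_iff]
      intro x _
      rw [← QuotientGroup.eq_one_iff]
      exact Subsingleton.elim _ _
    rw [htop, Subgroup.card_top] at hKcop
    exact hpp.one_lt.ne' (Nat.Coprime.eq_one_of_dvd hKcop.symm hdiv)
  obtain ⟨A, hAn, hA1, hA⟩ := Cfsg.Agent.Helper20.psolvable_setup p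
    (Cfsg.Agent.Helper20.isPSolvable_quotient p hsol K)
  obtain ⟨L, hLdef⟩ : ∃ L, L = A.comap (QuotientGroup.mk' K) := ⟨_, rfl⟩
  have hLn : L.Normal := by
    rw [hLdef]
    exact hAn.comap _
  have hLmem : ∀ x, x ∈ L ↔ (x : G ⧸ K) ∈ A := by
    intro x
    rw [hLdef, Subgroup.mem_comap]
    rfl
  have hKL : K ≤ L := by
    intro x hx
    rw [hLmem, (QuotientGroup.eq_one_iff x).2 hx]
    exact A.one_mem
  have hLK : L ≠ K := by
    intro heq
    apply hA1
    rw [eq_bot_iff]
    intro a ha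
    obtain ⟨x, rfl⟩ := QuotientGroup.mk_surjective a
    have hx : x ∈ K := heq ▸ (hLmem x).2 ha
    rw [Subgroup.mem_bot]
    exact (QuotientGroup.eq_one_iff x).2 hx
  rcases hA with hAp | hAcop
  · refine ⟨K, L, hKn, hLn, hKL, hLK, hKcop, ?_⟩
    intro x hx
    obtain ⟨k, hk⟩ := hAp ⟨(x : G ⧸ K), (hLmem x).1 hx⟩
    refine ⟨k, ?_⟩
    rw [← QuotientGroup.eq_one_iff, QuotientGroup.mk_pow]
    exact congrArg Subtype.val hk
  · exfalso
    have hLcop : (Nat.card L).Coprime p := by
      rw [Nat.coprime_comm, Nat.Prime.coprime_iff_not_dvd hpp]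
      intro hd
      obtain ⟨x', hx'⟩ := exists_prime_orderOf_dvd_card' p hd
      have hxo : orderOf (x' : G) = p := by rw [Subgroup.orderOf_coe, hx']
      have h1 : orderOf ((x' : G) : G ⧸ K) ∣ p := by
        rw [← hxo]
        exact orderOf_map_dvd (QuotientGroup.mk' K) (x' : G)
      have h2 : orderOf ((x' : G) : G ⧸ K) ∣ Nat.card A := by
        have h3 := orderOf_dvd_natCard (⟨((x' : G) : G ⧸ K), (hLmem _).1 x'.2⟩ : A)
        rwa [Subgroup.orderOf_mk] at h3
      have h4 : orderOf ((x' : G) : G ⧸ K) = 1 :=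
        Nat.eq_one_of_dvd_coprimes hAcop h2 h1
      rw [orderOf_eq_one_iff, QuotientGroup.eq_one_iff] at h4
      have h5 := orderOf_dvd_natCard (⟨(x' : G), h4⟩ : K)
      rw [Subgroup.orderOf_mk, hxo] at h5
      exact hpp.one_lt.ne' (Nat.Coprime.eq_one_of_dvd hKcop.symm h5)
    have h6 := hmax L ⟨hLn, hLcop⟩
    exact hLK (Subgroup.eq_of_le_of_card_ge hKL h6).symm

theorem reflTransGen_of_noncyclic [Finite G] [Fact p.Prime] (hsol : Cfsg.IsPSolvable p G)
    (hdiv : p ∣ Nat.card G) (P : Sylow p G) (E : Subgroup G) (hEP : E ≤ (P : Subgroup G))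
    (hEc : ∀ a ∈ E, ∀ b ∈ E, a * b = b * a) (hEnc : ¬ IsCyclic E) :
    ∀ S T : Sylow p G, Relation.ReflTransGen (sylAdj p) S T := by
  classical
  have hpp : p.Prime := Fact.out
  have hsymm : ∀ S T : Sylow p G, Relation.ReflTransGen (sylAdj p) S T →
      Relation.ReflTransGen (sylAdj p) T S := by
    intro S T h
    induction h with
    | refl => exact Relation.ReflTransGen.refl
    | tail _ hr ih => exact Relation.ReflTransGen.head (sylAdj_symm hr) ih
  have hlift : ∀ (g : G) (S T : Sylow p G), Relation.ReflTransGen (sylAdj p) S T →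
      Relation.ReflTransGen (sylAdj p) (g • S) (g • T) := by
    intro g S T h
    induction h with
    | refl => exact Relation.ReflTransGen.refl
    | tail _ hr ih => exact Relation.ReflTransGen.tail ih (sylAdj_smul g hr)
  let H' : Subgroup G :=
    { carrier := {g | Relation.ReflTransGen (sylAdj p) P (g • P)}
      one_mem' := by
        show Relation.ReflTransGen (sylAdj p) P ((1 : G) • P)
        rw [one_smul]
      mul_mem' := by
        intro a b ha hb
        show Relation.ReflTransGen (sylAdj p) P ((a * b) • P)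
        rw [mul_smul]
        have h1 : Relation.ReflTransGen (sylAdj p) (a • P) (a • b • P) := hlift a _ _ hb
        exact Relation.ReflTransGen.trans ha h1
      inv_mem' := by
        intro a ha
        show Relation.ReflTransGen (sylAdj p) P (a⁻¹ • P)
        have h1 : Relation.ReflTransGen (sylAdj p) (a⁻¹ • P) (a⁻¹ • a • P) := hlift a⁻¹ _ _ ha
        rw [inv_smul_smul] at h1
        exact hsymm _ _ h1 }
  have hH'mem : ∀ g, g ∈ H' ↔ Relation.ReflTransGen (sylAdj p) P (g • P) := fun g => Iff.rfl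
  have hK0 : ∀ X : Subgroup G, X ≤ (P : Subgroup G) → X ≠ ⊥ →
      Subgroup.normalizer (X : Set G) ≤ H' := by
    intro X hXP hX1 g hg
    rw [hH'mem]
    by_cases hgP : g • P = P
    · rw [hgP]
    · apply Relation.ReflTransGen.single
      refine ⟨fun h => hgP h.symm, ?_⟩
      obtain ⟨x, hx, hx1⟩ := exists_mem_ne_one_of_ne_bot' hX1
      intro hbot
      have h1 : x ∈ (P : Subgroup G) ⊓ ((g • P : Sylow p G) : Subgroup G) := by
        rw [Subgroup.mem_inf, mem_sylow_smul_iff]
        refine ⟨hXP hx, hXP ?_⟩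
        have h2 := (Subgroup.mem_normalizer_iff.1 (Subgroup.inv_mem _ hg) x).1 hx
        rwa [inv_inv] at h2
      rw [hbot, Subgroup.mem_bot] at h1
      exact hx1 h1
  obtain ⟨K, L, hKn, hLn, hKL, hLK, hKcop, hLp⟩ := exists_pprime_p_layer hsol hdiv
  have hKH : K ≤ H' := by
    have hEcard : (Nat.card E).Coprime (Nat.card K) := by
      obtain ⟨m, hm⟩ := IsPGroup.iff_card.1 (P.2.to_le hEP)
      rw [hm]
      exact Nat.Coprime.pow_left _ hKcop.symm
    have h1 := Cfsg.Agent.Helper1.centGen_aux _ G E K rfl hEc hEnc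
      (by rw [Subgroup.normalizer_eq_top_iff.2 hKn]; exact le_top) hEcard
    refine h1.trans ?_
    unfold Cfsg.Agent.Helper1.centGen
    apply iSup₂_le
    intro a ha
    have haE : a ∈ E := ha.1
    have ha1 : a ≠ 1 := ha.2
    refine inf_le_right.trans (le_trans ?_ (hK0 (Subgroup.zpowers a) ?_ ?_))
    · apply le_normalizer_of_conj_mem
      intro g hg x hx
      obtain ⟨k, rfl⟩ := Subgroup.mem_zpowers_iff.1 hx
      have h2 : g * a = a * g := (Subgroup.mem_centralizer_iff.1 hg a rfl).symm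
      have h3 : g * a ^ k * g⁻¹ = a ^ k := by
        rw [← conj_zpow, h2, mul_inv_cancel_right]
      rw [h3]
      exact Subgroup.zpow_mem_zpowers a k
    · rw [Subgroup.zpowers_le]
      exact hEP haE
    · intro h
      apply ha1
      have h4 := Subgroup.mem_zpowers a
      rw [h, Subgroup.mem_bot] at h4
      exact h4
  have hLtop : (⊤ : Subgroup G) ≤ Subgroup.normalizer (L : Set G) := by
    rw [Subgroup.normalizer_eq_top_iff.2 hLn]
  have hsyl : SylIn p ((P : Subgroup G) ⊓ L) L := (sylIn_top P).inf_normal le_top hLtop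
  obtain ⟨Q', hQ'⟩ := hsyl
  haveI := hLn
  have hfr := Sylow.normalizer_sup_eq_top Q'
  rw [hQ'] at hfr
  have hLle : L ≤ K ⊔ ((P : Subgroup G) ⊓ L) := by
    have h1 := Cfsg.Agent.Helper16.pResidual_sup_sylow Q'
    have h2 : L = ((Cfsg.pResidual p ↥L) ⊔ (Q' : Subgroup ↥L)).map L.subtype := by
      rw [h1, ← MonoidHom.range_eq_map, Subgroup.range_subtype]
    rw [Subgroup.map_sup, hQ'] at h2
    have h3 : (Cfsg.pResidual p ↥L).map L.subtype ≤ K := by
      rw [Subgroup.map_le_iff_le_comap]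
      show Subgroup.closure _ ≤ _
      rw [Subgroup.closure_le]
      intro x hx
      show (x : G) ∈ K
      obtain ⟨k, hk⟩ := hLp (x : G) x.2
      have hx' : (orderOf (x : G)).Coprime p := by
        rw [Subgroup.orderOf_coe]
        exact hx
      exact Cfsg.Agent.Helper16.mem_of_pow_mem_of_coprime_order
        (Nat.Coprime.pow_left _ hx'.symm) hk
    conv_lhs => rw [h2]
    exact sup_le_sup_right h3 _
  have hQ1 : (P : Subgroup G) ⊓ L ≠ ⊥ := by
    intro hbot
    rw [hbot, sup_bot_eq] at hLle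
    exact hLK (le_antisymm hLle hKL)
  have hNQ := hK0 _ inf_le_left hQ1
  have htop : (⊤ : Subgroup G) ≤ H' := by
    rw [← hfr]
    exact sup_le hNQ (hLle.trans (sup_le hKH (Subgroup.le_normalizer.trans hNQ)))
  intro S T
  obtain ⟨a, rfl⟩ := MulAction.exists_smul_eq G P S
  obtain ⟨b, rfl⟩ := MulAction.exists_smul_eq G P T
  have ha : Relation.ReflTransGen (sylAdj p) P (a • P) := htop (Subgroup.mem_top a)
  have hb : Relation.ReflTransGen (sylAdj p) P (b • P) := htop (Subgroup.mem_top b)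
  exact Relation.ReflTransGen.trans (hsymm _ _ ha) hb

theorem exists_noncyclic_abelian [Finite G] [Fact p.Prime] (P : Sylow p G)
    (hdiv : p ∣ Nat.card G)
    (hnot : ¬ (IsCyclic ↥P ∨ (p = 2 ∧ ∃ n : ℕ, Nonempty (↥P ≃* QuaternionGroup (2 ^ n))))) :
    ∃ E : Subgroup G, E ≤ (P : Subgroup G) ∧ (∀ a ∈ E, ∀ b ∈ E, a * b = b * a) ∧
      ¬ IsCyclic E := by
  classical
  have hpp : p.Prime := Fact.out
  have h1 : ¬ ∀ H K : Subgroup ↥P, Nat.card H = p → Nat.card K = p → H = K :=
    fun h => hnot (Cfsg.Agent.Helper1.pgroup_unique_cyclic_or_quat p P.2 h)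
  push Not at h1
  obtain ⟨H₁, K₁, hH₁, hK₁, hne⟩ := h1
  obtain ⟨z, hzP, hzo, hzc⟩ := exists_central_orderOf_eq_prime (P : Subgroup G) P.2
    (P.ne_bot_of_dvd_card hdiv)
  obtain ⟨X₁, hX₁, hX₁ne⟩ : ∃ X₁ : Subgroup ↥P, Nat.card X₁ = p ∧
      X₁ ≠ Subgroup.zpowers (⟨z, hzP⟩ : ↥P) := by
    by_cases h : H₁ = Subgroup.zpowers (⟨z, hzP⟩ : ↥P)
    · exact ⟨K₁, hK₁, fun h' => hne (h.trans h'.symm)⟩
    · exact ⟨H₁, hH₁, h⟩
  have hZcard : Nat.card (Subgroup.zpowers (⟨z, hzP⟩ : ↥P)) = p := by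
    rw [Nat.card_zpowers, Subgroup.orderOf_mk, hzo]
  obtain ⟨x', hx'X, hx'Z⟩ : ∃ x' ∈ X₁, x' ∉ Subgroup.zpowers (⟨z, hzP⟩ : ↥P) := by
    by_contra hcon
    push Not at hcon
    have hle : X₁ ≤ Subgroup.zpowers (⟨z, hzP⟩ : ↥P) := hcon
    exact hX₁ne (Subgroup.eq_of_le_of_card_ge hle (by rw [hZcard, hX₁]))
  have hx'o : orderOf x' = p := by
    have h2 : orderOf (⟨x', hx'X⟩ : X₁) ∣ p := by
      have h0 := orderOf_dvd_natCard (⟨x', hx'X⟩ : X₁)
      rwa [hX₁] at h0
    rw [Subgroup.orderOf_mk] at h2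
    rcases (Nat.dvd_prime hpp).1 h2 with h | h
    · exfalso
      rw [orderOf_eq_one_iff] at h
      apply hx'Z
      rw [h]
      exact Subgroup.one_mem _
    · exact h
  obtain ⟨x, hxdef⟩ : ∃ x : G, x = (x' : G) := ⟨_, rfl⟩
  have hxP : x ∈ (P : Subgroup G) := by
    rw [hxdef]
    exact x'.2
  have hxo : orderOf x = p := by rw [hxdef, Subgroup.orderOf_coe, hx'o]
  have hxz : z * x = x * z := (hzc x hxP).symm
  have hxnz : x ∉ Subgroup.zpowers z := by
    intro hmem
    apply hx'Z
    obtain ⟨k, hk⟩ := Subgroup.mem_zpowers_iff.1 hmem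
    rw [Subgroup.mem_zpowers_iff]
    refine ⟨k, Subtype.ext ?_⟩
    rw [Subgroup.coe_zpow]
    exact hk.trans hxdef
  refine ⟨Subgroup.zpowers z ⊔ Subgroup.zpowers x, ?_, sup_zpowers_comm hxz, ?_⟩
  · exact sup_le ((Subgroup.zpowers_le).2 hzP) ((Subgroup.zpowers_le).2 hxP)
  · intro hcyc
    haveI := hcyc
    have hzE : z ∈ Subgroup.zpowers z ⊔ Subgroup.zpowers x :=
      Subgroup.mem_sup_left (Subgroup.mem_zpowers z)
    have hxE : x ∈ Subgroup.zpowers z ⊔ Subgroup.zpowers x :=
      Subgroup.mem_sup_right (Subgroup.mem_zpowers x)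
    have h3 := cyclic_unique_order_p (p := p)
      (⟨z, hzE⟩ : ↥(Subgroup.zpowers z ⊔ Subgroup.zpowers x)) ⟨x, hxE⟩
      (by rw [Subgroup.orderOf_mk, hzo]) (by rw [Subgroup.orderOf_mk, hxo])
    apply hxnz
    obtain ⟨k, hk⟩ := Subgroup.mem_zpowers_iff.1 h3
    rw [Subgroup.mem_zpowers_iff]
    refine ⟨k, ?_⟩
    have h4 := congrArg Subtype.val hk
    rw [Subgroup.coe_zpow] at h4
    exact h4

end Cfsg.Agent.Helper17
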