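import Mathlib

set_option autoImplicit false

namespace Cfsg.Agent.Helper17

open MulAction in
/-- If every `t⁻¹ m t ∈ M` with `m ∈ M`, `t ∉ M` is killed by `ϕ`, the transfer restricted to `M`
is `ϕ`. -/
theorem transfer_eq_of_conj_mem_ker {G : Type*} [Group G] (M : Subgroup G) [M.FiniteIndex]
    {A : Type*} [CommGroup A] (ϕ : M →* A)
    (hϕ : ∀ t : G, t ∉ M → ∀ m : G, m ∈ M → ∀ h : t⁻¹ * m * t ∈ M, ϕ ⟨t⁻¹ * m * t, h⟩ = 1)
    (x : M) : MonoidHom.transfer ϕ (x : G) = ϕ x := by
  classical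
  letI : Fintype (Quotient (orbitRel (Subgroup.zpowers (x : G)) (G ⧸ M))) := Fintype.ofFinite _
  rw [MonoidHom.transfer_eq_prod_quotient_orbitRel_zpowers_quot]
  have hq₀ : ∃ q₀ : Quotient (orbitRel (Subgroup.zpowers (x : G)) (G ⧸ M)),
      q₀ = Quotient.mk'' ((1 : G) : G ⧸ M) := ⟨_, rfl⟩
  obtain ⟨q₀, hq₀⟩ := hq₀
  rw [Finset.prod_eq_single q₀]
  · have h1 : q₀.out = ((1 : G) : G ⧸ M) := by
      have h2 : (orbitRel (Subgroup.zpowers (x : G)) (G ⧸ M)) q₀.out ((1 : G) : G ⧸ M) := by
        apply Quotient.exact'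
        rw [Quotient.out_eq', hq₀]
      rw [orbitRel_apply] at h2
      obtain ⟨⟨y, hy⟩, hy2⟩ := h2
      rw [← hy2]
      have hyM : y ∈ M := by
        obtain ⟨k, rfl⟩ := Subgroup.mem_zpowers_iff.mp hy
        exact M.zpow_mem x.2 k
      show ((y * 1 : G) : G ⧸ M) = _
      rw [QuotientGroup.eq]
      simpa using hyM
    have h3 : q₀.out.out ∈ M := by
      have h3a : ((q₀.out.out : G) : G ⧸ M) = ((1 : G) : G ⧸ M) := by
        rw [QuotientGroup.out_eq', h1]
      rw [QuotientGroup.eq] at h3a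
      simpa using h3a
    have h4 : Function.minimalPeriod ((x : G) • · : G ⧸ M → G ⧸ M) q₀.out = 1 := by
      rw [Function.minimalPeriod_eq_one_iff_isFixedPt, h1]
      show (((x : G) * 1 : G) : G ⧸ M) = _
      rw [QuotientGroup.eq]
      simp
    have h5 : (⟨q₀.out.out⁻¹ * (x : G) ^ Function.minimalPeriod ((x : G) • · : G ⧸ M → G ⧸ M)
        q₀.out * q₀.out.out, QuotientGroup.out_conj_pow_minimalPeriod_mem M (x : G) q₀.out⟩ : M)
        = (⟨q₀.out.out, h3⟩ : M)⁻¹ * x * ⟨q₀.out.out, h3⟩ := by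
      ext
      simp [h4]
    rw [h5, map_mul, map_mul, map_inv, mul_comm, mul_inv_cancel_left]
  · intro q _ hq
    apply hϕ
    · intro hmem
      apply hq
      rw [hq₀, ← Quotient.out_eq' q]
      have h1 : q.out = ((1 : G) : G ⧸ M) := by
        rw [← QuotientGroup.out_eq' q.out, QuotientGroup.eq]
        simpa using hmem
      rw [h1]
    · exact M.pow_mem x.2 _
  · intro h; exact absurd (Finset.mem_univ _) h

/-- The quotient by a normal maximal subgroup is commutative. -/
theorem comm_of_coatom_normal {M : Type*} [Group M] (H : Subgroup M) [H.Normal]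
    (hH : IsCoatom H) (a b : M ⧸ H) : a * b = b * a := by
  have key : ∀ S : Subgroup (M ⧸ H), S = ⊥ ∨ S = ⊤ := by
    intro S
    have h1 : H ≤ S.comap (QuotientGroup.mk' H) := by
      intro h hh
      rw [Subgroup.mem_comap, QuotientGroup.mk'_apply, (QuotientGroup.eq_one_iff h).mpr hh]
      exact S.one_mem
    have h2 := Subgroup.map_comap_eq_self_of_surjective (QuotientGroup.mk'_surjective H) S
    rcases hH.le_iff.mp h1 with h3 | h3
    · right
      rw [← h2, h3]
      exact Subgroup.map_top_of_surjective _ (QuotientGroup.mk'_surjective H)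
    · left
      rw [← h2, h3]
      exact QuotientGroup.map_mk'_self H
  rcases key (Subgroup.zpowers a) with h | h
  · rw [Subgroup.zpowers_eq_bot] at h
    rw [h]; simp
  · have hb : b ∈ Subgroup.zpowers a := by rw [h]; trivial
    obtain ⟨k, rfl⟩ := Subgroup.mem_zpowers_iff.mp hb
    exact ((Commute.refl a).zpow_right k).eq

end Cfsg.Agent.Helper17
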