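import Mathlib
import Cfsg.Prelude.Def_IsolatedElements
import Cfsg.Agent.Helper17.Basic
import Cfsg.Agent.Helper17.Isolated
import Cfsg.Agent.Helper17.PPrimeCore
import Cfsg.Agent.Helper17.CharP
import Cfsg.Agent.Helper17.SylIn
import Cfsg.Agent.Helper17.RelSylow
import Cfsg.Agent.Helper17.CD
import Cfsg.Agent.Helper11.PPrime
import Cfsg.Agent.Helper18.Solvable

set_option autoImplicit false

namespace Cfsg.Agent.Helper17

open scoped commutatorElement Pointwise

variable {G : Type*} [Group G] [Finite G] {p : ℕ} [Fact p.Prime]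

theorem zmin_core_eq_bot (x : G) (hnz : ¬ Cfsg.InZStar p x)
    (hquot : ∀ (N : Subgroup G) [N.Normal], N ≠ ⊥ → Cfsg.InZStar p (QuotientGroup.mk x : G ⧸ N)) :
    Cfsg.pPrimeCore p G = ⊥ := by
  by_contra hK
  haveI := pPrimeCore_normal' p G
  have h1 := hquot (Cfsg.pPrimeCore p G) hK
  have h2 : Cfsg.pPrimeCore p (G ⧸ Cfsg.pPrimeCore p G) = ⊥ :=
    Cfsg.Agent.Helper18.pPrimeCore_quotient_trivial p _ (pPrimeCore_normal' p _)
      (pPrimeCore_card_coprime p)
  apply hnz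
  intro g
  have h3 := h1 (QuotientGroup.mk g)
  rw [h2, Subgroup.mem_bot] at h3
  exact (QuotientGroup.eq_one_iff (g * x * g⁻¹ * x⁻¹)).mp h3

theorem zmin_normalClosure_eq_top (x : G) (hiso : Cfsg.IsIsolated x) (hnz : ¬ Cfsg.InZStar p x)
    (hmin : ∀ (H : Subgroup G) (hxH : x ∈ H), H ≠ ⊤ → Cfsg.InZStar p (⟨x, hxH⟩ : ↥H))
    (hK : Cfsg.pPrimeCore p G = ⊥) : Subgroup.normalClosure ({x} : Set G) = ⊤ := by
  by_contra hM
  have hxM : x ∈ Subgroup.normalClosure ({x} : Set G) :=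
    Subgroup.subset_normalClosure (Set.mem_singleton x)
  have h1 := hmin _ hxM hM
  have hMn : (Subgroup.normalClosure ({x} : Set G)).Normal := Subgroup.normalClosure_normal
  have h2 : Cfsg.pPrimeCore p ↥(Subgroup.normalClosure ({x} : Set G)) = ⊥ := by
    have h3 := Cfsg.Agent.Helper11.ppOf_le_of_subnormal p _ hMn.isSubnormal
    rw [hK, le_bot_iff] at h3
    exact (Subgroup.map_eq_bot_iff_of_injective _ (Subgroup.subtype_injective _)).mp h3
  apply hnz
  intro g
  have hy : g * x * g⁻¹ ∈ Subgroup.normalClosure ({x} : Set G) := hMn.conj_mem x hxM g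
  have h4 := h1 ⟨g * x * g⁻¹, hy⟩
  rw [h2, Subgroup.mem_bot] at h4
  have h5 : (g * x * g⁻¹) * x * (g * x * g⁻¹)⁻¹ * x⁻¹ = 1 := congrArg Subtype.val h4
  have h6 : Commute x (g * x * g⁻¹) := by
    have h7 : (g * x * g⁻¹) * x = x * (g * x * g⁻¹) := by
      have h8 := congrArg (fun t => t * x * (g * x * g⁻¹)) h5
      simpa [mul_assoc] using h8
    exact h7.symm
  have h7 := hiso g h6
  rw [h7, mul_inv_cancel]
  exact Subgroup.one_mem _

theorem zmin_commutator_sup (x : G) (hM : Subgroup.normalClosure ({x} : Set G) = ⊤) :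
    commutator G ⊔ Subgroup.zpowers x = ⊤ := by
  haveI hUn : (commutator G ⊔ Subgroup.zpowers x).Normal := by
    constructor
    intro u hu g
    have h1 : g * u * g⁻¹ = ⁅g, u⁆ * u := by simp [commutatorElement_def]
    rw [h1]
    exact Subgroup.mul_mem _ (Subgroup.mem_sup_left
      (Subgroup.commutator_mem_commutator (Subgroup.mem_top g) (Subgroup.mem_top u))) hu
  rw [eq_top_iff, ← hM]
  apply Subgroup.normalClosure_le_normal
  intro y hy
  rw [Set.mem_singleton_iff] at hy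
  rw [hy]
  exact Subgroup.mem_sup_right (Subgroup.mem_zpowers x)

theorem zmin_central_ext (hK : Cfsg.pPrimeCore p G = ⊥) (N L : Subgroup G) [hLn : L.Normal]
    (hNL : N ≤ L) (hNc : N ≤ Subgroup.center G) (hNcard : Nat.card N = p)
    (hrel : (N.relIndex L).Coprime p) : L = N := by
  classical
  haveI hN'n : (N.subgroupOf L).Normal := by
    constructor
    rintro ⟨a, haL⟩ ha ⟨b, hbL⟩
    rw [Subgroup.mem_subgroupOf] at ha ⊢
    have hac := Subgroup.mem_center_iff.mp (hNc ha) b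
    have h1 : b * a * b⁻¹ = a := by rw [hac]; group
    show b * a * b⁻¹ ∈ N
    rw [h1]; exact ha
  have hcard' : Nat.card (N.subgroupOf L) = p := by
    rw [Nat.card_congr (Subgroup.subgroupOfEquivOfLe hNL).toEquiv, hNcard]
  have hcop : Nat.Coprime (Nat.card (N.subgroupOf L)) (N.subgroupOf L).index := by
    rw [hcard']
    exact hrel.symm
  obtain ⟨H₁, hcomp⟩ := Subgroup.exists_right_complement'_of_coprime hcop
  have hH₁n : H₁.Normal := by
    constructor
    intro h hh l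
    obtain ⟨⟨⟨n, hn⟩, ⟨h', hh'⟩⟩, e, -⟩ := hcomp.existsUnique l
    simp only at e
    have hnc : ∀ y : ↥L, n * y = y * n := by
      intro y
      apply Subtype.ext
      have h2 := Subgroup.mem_center_iff.mp (hNc (Subgroup.mem_subgroupOf.mp hn)) (y : G)
      exact h2.symm
    have h3 : l * h * l⁻¹ = h' * h * h'⁻¹ := by
      rw [← e]
      calc n * h' * h * (n * h')⁻¹ = n * (h' * h * h'⁻¹) * n⁻¹ := by group
        _ = (h' * h * h'⁻¹) * n * n⁻¹ := by rw [hnc]
        _ = h' * h * h'⁻¹ := by group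
    rw [h3]
    exact H₁.mul_mem (H₁.mul_mem hh' hh) (H₁.inv_mem hh')
  have hH₁bot : H₁ = ⊥ := by
    have h1 : H₁.map L.subtype ≤ Cfsg.pPrimeCore p G := by
      apply Cfsg.Agent.Helper11.subnormal_coprime_le_pPrimeCore
      · apply Subgroup.IsSubnormal.step _ L (Subgroup.map_subtype_le _) hLn.isSubnormal
        have h2 : (H₁.map L.subtype).subgroupOf L = H₁ :=
          Subgroup.comap_map_eq_self_of_injective (Subgroup.subtype_injective _) H₁
        rw [h2]; exact hH₁n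
      · rw [Subgroup.card_subtype]
        have h2 : Nat.card H₁ = (N.subgroupOf L).index := hcomp.symm.index_eq_card.symm
        rw [h2]; exact hrel
    rw [hK, le_bot_iff] at h1
    exact (Subgroup.map_eq_bot_iff_of_injective _ (Subgroup.subtype_injective _)).mp h1
  have hidx : (N.subgroupOf L).index = 1 := by
    rw [hcomp.symm.index_eq_card, hH₁bot, Subgroup.card_bot]
  have htop : N.subgroupOf L = ⊤ := Subgroup.index_eq_one.mp hidx
  exact le_antisymm (Subgroup.subgroupOf_eq_top.mp htop) hNL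

theorem zmin_minimal_normal_sup (x : G) (hiso : Cfsg.IsIsolated x)
    (hmin : ∀ (H : Subgroup G) (hxH : x ∈ H), H ≠ ⊤ → Cfsg.InZStar p (⟨x, hxH⟩ : ↥H))
    (hquot : ∀ (N : Subgroup G) [N.Normal], N ≠ ⊥ → Cfsg.InZStar p (QuotientGroup.mk x : G ⧸ N))
    (hK : Cfsg.pPrimeCore p G = ⊥) (hM : Subgroup.normalClosure ({x} : Set G) = ⊤)
    (N : Subgroup G) [hNn : N.Normal] (hN1 : N ≠ ⊥)
    (hNmin : ∀ N' : Subgroup G, N'.Normal → N' ≤ N → N' ≠ ⊥ → N' = N) :
    N ⊔ Subgroup.zpowers x = ⊤ := by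
  classical
  by_contra hH
  have hxH : x ∈ N ⊔ Subgroup.zpowers x := Subgroup.mem_sup_right (Subgroup.mem_zpowers x)
  have h1 := hmin _ hxH hH
  have hN₀ : N ⊓ (Cfsg.pPrimeCore p ↥(N ⊔ Subgroup.zpowers x)).map
      (N ⊔ Subgroup.zpowers x).subtype = ⊥ := by
    rw [← le_bot_iff, ← hK]
    apply Cfsg.Agent.Helper11.subnormal_coprime_le_pPrimeCore
    · apply Subgroup.IsSubnormal.step _ N inf_le_left hNn.isSubnormal
      constructor
      rintro ⟨a, haN⟩ ha ⟨b, hbN⟩
      rw [Subgroup.mem_subgroupOf] at ha ⊢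
      refine ⟨N.mul_mem (N.mul_mem hbN haN) (N.inv_mem hbN), ?_⟩
      obtain ⟨a', ha', hae⟩ := ha.2
      have hbH : b ∈ N ⊔ Subgroup.zpowers x := Subgroup.mem_sup_left hbN
      refine ⟨⟨b, hbH⟩ * a' * ⟨b, hbH⟩⁻¹,
        (pPrimeCore_normal' p ↥(N ⊔ Subgroup.zpowers x)).conj_mem a' ha' ⟨b, hbH⟩, ?_⟩
      simp only [Subgroup.coe_subtype] at hae
      simp [← hae]
    · refine Nat.Coprime.coprime_dvd_left (Subgroup.card_dvd_of_le inf_le_right) ?_
      rw [Subgroup.card_subtype]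
      exact pPrimeCore_card_coprime p
  have hxN : ∀ n ∈ N, n * x = x * n := by
    intro n hn
    have hnH : n ∈ N ⊔ Subgroup.zpowers x := Subgroup.mem_sup_left hn
    have h2 := h1 ⟨n, hnH⟩
    have hc : n * x * n⁻¹ * x⁻¹ ∈ N ⊓ (Cfsg.pPrimeCore p ↥(N ⊔ Subgroup.zpowers x)).map
        (N ⊔ Subgroup.zpowers x).subtype := by
      refine ⟨?_, ⟨_, h2, rfl⟩⟩
      have h3 := N.mul_mem hn (hNn.conj_mem n⁻¹ (N.inv_mem hn) x)
      rwa [← mul_assoc, ← mul_assoc] at h3
    rw [hN₀, Subgroup.mem_bot] at hc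
    have h4 := congrArg (fun t => t * x * n) hc
    simpa [mul_assoc] using h4
  have hNZ : N ≤ Subgroup.center G := by
    have hCtop : Subgroup.centralizer (N : Set G) = ⊤ := by
      rw [eq_top_iff, ← hM]
      apply Subgroup.normalClosure_le_normal
      intro y hy
      rw [Set.mem_singleton_iff] at hy
      rw [hy, SetLike.mem_coe, Subgroup.mem_centralizer_iff]
      exact hxN
    intro n hn
    rw [Subgroup.mem_center_iff]
    intro g
    have hg : g ∈ Subgroup.centralizer (N : Set G) := by rw [hCtop]; trivial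
    exact (Subgroup.mem_centralizer_iff.mp hg n hn).symm
  have hNcard : Nat.card N = p := by
    have hN1' : Nat.card N ≠ 1 := fun h => hN1 (Subgroup.eq_bot_of_card_eq N h)
    obtain ⟨q, hq, hqdvd⟩ := Nat.exists_prime_and_dvd hN1'
    haveI : Fact q.Prime := ⟨hq⟩
    obtain ⟨z, hz⟩ := exists_prime_orderOf_dvd_card' q hqdvd
    have hzo : orderOf (z : G) = q := by rw [Subgroup.orderOf_coe]; exact hz
    have hzN : (z : G) ∈ N := z.2
    generalize (z : G) = z' at hzo hzN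
    have hzn : (Subgroup.zpowers z').Normal := by
      constructor
      intro a ha g
      have hac : a ∈ Subgroup.center G := hNZ ((Subgroup.zpowers_le.mpr hzN) ha)
      have h2 : g * a * g⁻¹ = a := by
        rw [Subgroup.mem_center_iff.mp hac g]; group
      rw [h2]; exact ha
    have hzeq := hNmin _ hzn (Subgroup.zpowers_le.mpr hzN) (by
      rw [Ne, Subgroup.zpowers_eq_bot]
      intro h
      rw [h, orderOf_one] at hzo
      exact hq.one_lt.ne hzo)
    have hcq : Nat.card N = q := by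
      rw [← hzeq, Nat.card_zpowers, hzo]
    by_cases hqp : q = p
    · rw [hcq, hqp]
    · exfalso
      apply hN1
      rw [← le_bot_iff, ← hK]
      apply le_pPrimeCore' hNn
      rw [hcq]
      exact (Nat.coprime_primes hq Fact.out).mpr hqp
  have h3 := hquot N hN1
  have hLn : ((Cfsg.pPrimeCore p (G ⧸ N)).comap (QuotientGroup.mk' N)).Normal :=
    (pPrimeCore_normal' p _).comap _
  have hNL : N ≤ (Cfsg.pPrimeCore p (G ⧸ N)).comap (QuotientGroup.mk' N) := by
    intro n hn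
    rw [Subgroup.mem_comap, QuotientGroup.mk'_apply, (QuotientGroup.eq_one_iff n).mpr hn]
    exact Subgroup.one_mem _
  have hLcard := Cfsg.Agent.Helper11.card_comap_mk N (Cfsg.pPrimeCore p (G ⧸ N))
  have hrel : (N.relIndex ((Cfsg.pPrimeCore p (G ⧸ N)).comap (QuotientGroup.mk' N))).Coprime p := by
    have e := card_eq_card_mul_relIndex hNL
    rw [hLcard] at e
    have h5 : N.relIndex ((Cfsg.pPrimeCore p (G ⧸ N)).comap (QuotientGroup.mk' N))
        = Nat.card ↥(Cfsg.pPrimeCore p (G ⧸ N)) := by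
      have hpos : 0 < Nat.card N := Nat.card_pos
      have e' : Nat.card N * Nat.card ↥(Cfsg.pPrimeCore p (G ⧸ N)) = Nat.card N *
          N.relIndex ((Cfsg.pPrimeCore p (G ⧸ N)).comap (QuotientGroup.mk' N)) := by
        rw [← e]; ring
      exact (Nat.eq_of_mul_eq_mul_left hpos e').symm
    rw [h5]; exact pPrimeCore_card_coprime p
  haveI := hLn
  have hLN := zmin_central_ext hK N _ hNL hNZ hNcard hrel
  apply hH
  rw [eq_top_iff, ← hM, Subgroup.normalClosure, Subgroup.closure_le]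
  intro y hy
  rw [Group.mem_conjugatesOfSet_iff] at hy
  obtain ⟨a, ha, hconj⟩ := hy
  rw [Set.mem_singleton_iff] at ha
  obtain ⟨g, rfl⟩ := isConj_iff.mp hconj
  rw [ha]
  have h4 := h3 (QuotientGroup.mk g)
  have h5 : g * x * g⁻¹ * x⁻¹ ∈ (Cfsg.pPrimeCore p (G ⧸ N)).comap (QuotientGroup.mk' N) := h4
  rw [hLN] at h5
  have h6 : g * x * g⁻¹ = (g * x * g⁻¹ * x⁻¹) * x := by group
  rw [SetLike.mem_coe, h6]
  exact Subgroup.mul_mem _ (Subgroup.mem_sup_left h5) hxH

theorem commutator_le_of_sup_zpowers (N : Subgroup G) [N.Normal] (x : G)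
    (h : N ⊔ Subgroup.zpowers x = ⊤) : commutator G ≤ N := by
  rw [commutator_def, Subgroup.commutator_le]
  intro a _ b _
  have key : ∀ y : G, ∃ k : ℤ, (QuotientGroup.mk y : G ⧸ N) = (QuotientGroup.mk x) ^ k := by
    intro y
    have hy : y ∈ ((N ⊔ Subgroup.zpowers x : Subgroup G) : Set G) := by rw [h]; trivial
    rw [Subgroup.normal_mul] at hy
    obtain ⟨n, hn, z, hz, rfl⟩ := Set.mem_mul.mp hy
    obtain ⟨k, rfl⟩ := Subgroup.mem_zpowers_iff.mp hz
    refine ⟨k, ?_⟩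
    rw [QuotientGroup.mk_mul, (QuotientGroup.eq_one_iff n).mpr hn, one_mul, QuotientGroup.mk_zpow]
  obtain ⟨k, hk⟩ := key a
  obtain ⟨l, hl⟩ := key b
  apply (QuotientGroup.eq_one_iff _).mp
  have h1 : ((⁅a, b⁆ : G) : G ⧸ N) = ⁅(a : G ⧸ N), (b : G ⧸ N)⁆ := rfl
  rw [h1, hk, hl, commutatorElement_eq_one_iff_commute]
  exact (Commute.refl _).zpow_zpow k l

theorem commute_of_inf_eq_bot {A B : Subgroup G} (hAB : ∀ a ∈ A, ∀ b ∈ B, a * b * a⁻¹ ∈ B)
    (hBA : ∀ b ∈ B, ∀ a ∈ A, b * a * b⁻¹ ∈ A) (h : A ⊓ B = ⊥) {a b : G} (ha : a ∈ A)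
    (hb : b ∈ B) : a * b = b * a := by
  have h1 : ⁅a, b⁆ ∈ A ⊓ B := by
    constructor
    · rw [commutatorElement_def]
      have h2 := A.mul_mem ha (hBA b hb a⁻¹ (A.inv_mem ha))
      rwa [← mul_assoc, ← mul_assoc] at h2
    · rw [commutatorElement_def]
      exact B.mul_mem (hAB a ha b hb) (B.inv_mem hb)
  rw [h, Subgroup.mem_bot] at h1
  exact commutatorElement_eq_one_iff_mul_comm.mp h1

theorem zmin_simple_aux (x : G) (hx : orderOf x = p) (hiso : Cfsg.IsIsolated x)
    (hK : Cfsg.pPrimeCore p G = ⊥) (N : Subgroup G) [hNn : N.Normal]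
    (hNmin : ∀ N' : Subgroup G, N'.Normal → N' ≤ N → N' ≠ ⊥ → N' = N)
    (hNx : N ⊔ Subgroup.zpowers x = ⊤) :
    ∀ T : Subgroup G, T ≤ N → T ≠ ⊥ → (∀ n ∈ N, ∀ t ∈ T, n * t * n⁻¹ ∈ T) → T = N := by
  classical
  intro T hTN hT1 hTinv
  obtain ⟨T₀, ⟨hT₀N, hT₀1, hT₀inv⟩, hT₀min⟩ := Set.exists_min_image
    {T : Subgroup G | T ≤ N ∧ T ≠ ⊥ ∧ ∀ n ∈ N, ∀ t ∈ T, n * t * n⁻¹ ∈ T}
    (fun T => Nat.card T) (Set.toFinite _) ⟨T, hTN, hT1, hTinv⟩
  suffices h : T₀ = N by
    have h1 := hT₀min T ⟨hTN, hT1, hTinv⟩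
    rw [h] at h1
    exact Subgroup.eq_of_le_of_card_ge hTN h1
  by_contra hne
  have F1 : ∀ T' T'' : Subgroup G,
      (T' ≤ N ∧ T' ≠ ⊥ ∧ ∀ n ∈ N, ∀ t ∈ T', n * t * n⁻¹ ∈ T') →
      (T'' ≤ N ∧ T'' ≠ ⊥ ∧ ∀ n ∈ N, ∀ t ∈ T'', n * t * n⁻¹ ∈ T'') →
      Nat.card T' = Nat.card T₀ → Nat.card T'' = Nat.card T₀ → T' = T'' ∨ T' ⊓ T'' = ⊥ := by
    intro T' T'' h' h'' hc' hc''
    by_cases hbot : T' ⊓ T'' = ⊥
    · right; exact hbot
    · left
      have hmem : T' ⊓ T'' ∈ {T : Subgroup G | T ≤ N ∧ T ≠ ⊥ ∧ ∀ n ∈ N, ∀ t ∈ T, n * t * n⁻¹ ∈ T} :=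
        ⟨inf_le_left.trans h'.1, hbot, fun n hn t ht =>
          ⟨h'.2.2 n hn t ht.1, h''.2.2 n hn t ht.2⟩⟩
      have h1 := hT₀min _ hmem
      have h2 : T' ⊓ T'' = T' := Subgroup.eq_of_le_of_card_ge inf_le_left (by rw [hc']; exact h1)
      have h3 : T' ≤ T'' := by rw [← h2]; exact inf_le_right
      exact Subgroup.eq_of_le_of_card_ge h3 (by rw [hc', hc''])
  have hTk : ∀ k : ℕ, (T₀.map (MulAut.conj (x ^ k)).toMonoidHom ≤ N ∧
      T₀.map (MulAut.conj (x ^ k)).toMonoidHom ≠ ⊥ ∧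
      ∀ n ∈ N, ∀ t ∈ T₀.map (MulAut.conj (x ^ k)).toMonoidHom,
        n * t * n⁻¹ ∈ T₀.map (MulAut.conj (x ^ k)).toMonoidHom) := by
    intro k
    refine ⟨?_, ?_, ?_⟩
    · rintro _ ⟨t, ht, rfl⟩
      exact hNn.conj_mem t (hT₀N ht) _
    · intro h
      exact hT₀1 ((Subgroup.map_eq_bot_iff_of_injective _ (MulAut.conj (x ^ k)).injective).mp h)
    · rintro n hn _ ⟨t, ht, rfl⟩
      refine ⟨((x ^ k)⁻¹ * n * x ^ k) * t * ((x ^ k)⁻¹ * n * x ^ k)⁻¹, hT₀inv _ ?_ t ht, ?_⟩
      · have h1 := hNn.conj_mem n hn (x ^ k)⁻¹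
        simpa using h1
      · simp only [MulEquiv.coe_toMonoidHom, MulAut.conj_apply]; group
  have hTkcard : ∀ k : ℕ, Nat.card (T₀.map (MulAut.conj (x ^ k)).toMonoidHom) = Nat.card T₀ :=
    fun k => card_map_conj T₀ _
  have F3 : x ∉ Subgroup.normalizer (T₀ : Set G) := by
    intro hxn
    have hTn : T₀.Normal := by
      rw [← Subgroup.normalizer_eq_top_iff, eq_top_iff, ← hNx]
      apply sup_le
      · exact le_normalizer_of_conj_mem N T₀ hT₀inv
      · rw [Subgroup.zpowers_le]; exact hxn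
    exact hne (hNmin T₀ hTn hT₀N hT₀1)
  have hpT : p ∣ Nat.card T₀ := by
    by_contra hnd
    apply hT₀1
    rw [← le_bot_iff, ← hK]
    apply Cfsg.Agent.Helper11.subnormal_coprime_le_pPrimeCore
    · apply Subgroup.IsSubnormal.step _ N hT₀N hNn.isSubnormal
      constructor
      rintro ⟨a, haN⟩ ha ⟨b, hbN⟩
      exact Subgroup.mem_subgroupOf.mpr (hT₀inv b hbN a (Subgroup.mem_subgroupOf.mp ha))
    · exact ((Nat.Prime.coprime_iff_not_dvd Fact.out).mpr hnd).symm
  obtain ⟨d', hd'⟩ := exists_prime_orderOf_dvd_card' p hpT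
  have hd : orderOf (d' : G) = p := by rw [Subgroup.orderOf_coe]; exact hd'
  have hdT : (d' : G) ∈ T₀ := d'.2
  generalize (d' : G) = d at hd hdT
  have hYcomm : ∀ k l : ℕ, (x ^ k * d * (x ^ k)⁻¹) * (x ^ l * d * (x ^ l)⁻¹)
      = (x ^ l * d * (x ^ l)⁻¹) * (x ^ k * d * (x ^ k)⁻¹) := by
    intro k l
    have hak : x ^ k * d * (x ^ k)⁻¹ ∈ T₀.map (MulAut.conj (x ^ k)).toMonoidHom :=
      conj_mem_map_conj T₀ _ hdT
    have hal : x ^ l * d * (x ^ l)⁻¹ ∈ T₀.map (MulAut.conj (x ^ l)).toMonoidHom :=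
      conj_mem_map_conj T₀ _ hdT
    rcases F1 _ _ (hTk k) (hTk l) (hTkcard k) (hTkcard l) with heq | hbot
    · have hmem := mem_normalizer_of_map_conj_eq_map_conj T₀ heq
      by_cases he : (x ^ l)⁻¹ * x ^ k = 1
      · have h1 : x ^ k = x ^ l := by
          have h2 := congrArg (fun t => x ^ l * t) he
          simpa using h2
        rw [h1]
      · exfalso
        apply F3
        have heZ : (x ^ l)⁻¹ * x ^ k ∈ Subgroup.zpowers x :=
          Subgroup.mul_mem _ (Subgroup.inv_mem _ (Subgroup.pow_mem _ (Subgroup.mem_zpowers x) l))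
            (Subgroup.pow_mem _ (Subgroup.mem_zpowers x) k)
        have hcardZ : Nat.card (Subgroup.zpowers x) = p := by rw [Nat.card_zpowers, hx]
        have hmz := mem_zpowers_of_prime_card (G := ↥(Subgroup.zpowers x)) hcardZ
          (g := ⟨(x ^ l)⁻¹ * x ^ k, heZ⟩) (g' := ⟨x, Subgroup.mem_zpowers x⟩)
          (by intro h; exact he (congrArg Subtype.val h))
        obtain ⟨m, hm⟩ := Subgroup.mem_zpowers_iff.mp hmz
        have hm' : ((x ^ l)⁻¹ * x ^ k) ^ m = x := by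
          have h2 := congrArg Subtype.val hm
          simpa using h2
        rw [← hm']
        exact Subgroup.zpow_mem _ hmem m
    · exact commute_of_inf_eq_bot
        (fun a ha b hb => (hTk l).2.2 a ((hTk k).1 ha) b hb)
        (fun b hb a ha => (hTk k).2.2 b ((hTk l).1 hb) a ha) hbot hak hal
  obtain ⟨Y, hY⟩ : ∃ Y : Set G, ∀ y, y ∈ Y ↔ ∃ k : ℕ, y = x ^ k * d * (x ^ k)⁻¹ :=
    ⟨{y | ∃ k : ℕ, y = x ^ k * d * (x ^ k)⁻¹}, fun y => Iff.rfl⟩
  have hAc : IsMulCommutative (Subgroup.closure Y) := by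
    rw [← Subgroup.le_centralizer_iff_isMulCommutative, Subgroup.centralizer_closure,
      Subgroup.closure_le]
    intro y hy
    rw [SetLike.mem_coe, Subgroup.mem_centralizer_iff]
    intro y' hy'
    obtain ⟨k, rfl⟩ := (hY y).mp hy
    obtain ⟨l, rfl⟩ := (hY y').mp hy'
    exact hYcomm l k
  have hAp : ∀ a ∈ Subgroup.closure Y, a ^ p = 1 := by
    intro a ha
    induction ha using Subgroup.closure_induction with
    | mem y hy =>
      obtain ⟨k, rfl⟩ := (hY y).mp hy
      rw [conj_pow, ← hd, pow_orderOf_eq_one]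
      group
    | one => exact one_pow p
    | mul a b ha hb iha ihb =>
      have hcomm : Commute a b := comm_of_isMulCommutative _ hAc ha hb
      rw [hcomm.mul_pow, iha, ihb, one_mul]
    | inv a ha iha => rw [inv_pow, iha, inv_one]
  have hAP : IsPGroup p (Subgroup.closure Y) := by
    intro g
    refine ⟨1, ?_⟩
    apply Subtype.ext
    rw [pow_one, Subgroup.coe_pow, Subgroup.coe_one]
    exact hAp g g.2
  have hxA : Subgroup.zpowers x ≤
      Subgroup.normalizer ((Subgroup.closure Y : Subgroup G) : Set G) := by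
    rw [Subgroup.zpowers_le]
    apply Subgroup.mem_normalizer_fintype
    intro a ha
    have h1 : (Subgroup.closure Y).map (MulAut.conj x).toMonoidHom ≤ Subgroup.closure Y := by
      rw [MonoidHom.map_closure, Subgroup.closure_le]
      rintro _ ⟨y, hy, rfl⟩
      obtain ⟨k, rfl⟩ := (hY y).mp hy
      apply Subgroup.subset_closure
      rw [hY]
      refine ⟨k + 1, ?_⟩
      simp only [MulEquiv.coe_toMonoidHom, MulAut.conj_apply, pow_succ']; group
    exact h1 (conj_mem_map_conj _ x ha)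
  have hR : IsPGroup p (Subgroup.zpowers x ⊔ Subgroup.closure Y : Subgroup G) :=
    IsPGroup.to_sup_of_normal_right' (isPGroup_zpowers_of_orderOf x 1 (by rw [hx, pow_one]))
      hAP hxA
  have hdR : d ∈ (Subgroup.zpowers x ⊔ Subgroup.closure Y : Subgroup G) := by
    apply Subgroup.mem_sup_right
    apply Subgroup.subset_closure
    rw [hY]
    exact ⟨0, by simp⟩
  have hcx := isolated_central hiso _ hR (Subgroup.mem_sup_left (Subgroup.mem_zpowers x)) d hdR
  rcases F1 _ _ (hTk 0) (hTk 1) (hTkcard 0) (hTkcard 1) with heq | hbot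
  · have hmem := mem_normalizer_of_map_conj_eq_map_conj T₀ heq
    apply F3
    have h1 : x⁻¹ ∈ Subgroup.normalizer (T₀ : Set G) := by simpa using hmem
    simpa using Subgroup.inv_mem _ h1
  · have h1 : d ∈ T₀.map (MulAut.conj (x ^ 0)).toMonoidHom ⊓
        T₀.map (MulAut.conj (x ^ 1)).toMonoidHom := by
      constructor
      · exact ⟨d, hdT, by simp⟩
      · refine ⟨d, hdT, ?_⟩
        simp only [MulEquiv.coe_toMonoidHom, MulAut.conj_apply, pow_one]
        rw [← hcx]; group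
    rw [hbot, Subgroup.mem_bot] at h1
    rw [h1, orderOf_one] at hd
    exact (Nat.Prime.one_lt Fact.out).ne hd

theorem zmin_main (x : G) (hx : orderOf x = p) (hiso : Cfsg.IsIsolated x)
    (hnz : ¬ Cfsg.InZStar p x)
    (hmin : ∀ (H : Subgroup G) (hxH : x ∈ H), H ≠ ⊤ → Cfsg.InZStar p (⟨x, hxH⟩ : ↥H))
    (hquot : ∀ (N : Subgroup G) [N.Normal], N ≠ ⊥ → Cfsg.InZStar p (QuotientGroup.mk x : G ⧸ N)) :
    IsSimpleGroup ↥(commutator G) ∧ ¬ IsMulCommutative ↥(commutator G) ∧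
      commutator G ⊔ Subgroup.zpowers x = ⊤ := by
  classical
  have hK := zmin_core_eq_bot x hnz hquot
  have hM := zmin_normalClosure_eq_top x hiso hnz hmin hK
  have hDx := zmin_commutator_sup x hM
  have hD1 : commutator G ≠ ⊥ := by
    intro h
    apply hnz
    intro g
    have h1 : g * x * g⁻¹ * x⁻¹ ∈ commutator G := by
      have h2 := Subgroup.commutator_mem_commutator (Subgroup.mem_top g) (Subgroup.mem_top x)
      rwa [commutatorElement_def] at h2
    rw [h, Subgroup.mem_bot] at h1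
    rw [h1]; exact Subgroup.one_mem _
  obtain ⟨N, ⟨hNn, hND, hN1⟩, hNmin'⟩ := Set.exists_min_image
    {N : Subgroup G | N.Normal ∧ N ≤ commutator G ∧ N ≠ ⊥}
    (fun N => Nat.card N) (Set.toFinite _) ⟨commutator G, inferInstance, le_rfl, hD1⟩
  haveI := hNn
  have hNmin : ∀ N' : Subgroup G, N'.Normal → N' ≤ N → N' ≠ ⊥ → N' = N := by
    intro N' hN'n hN'N hN'1
    exact Subgroup.eq_of_le_of_card_ge hN'N (hNmin' N' ⟨hN'n, hN'N.trans hND, hN'1⟩)
  have hNx := zmin_minimal_normal_sup x hiso hmin hquot hK hM N hN1 hNmin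
  have hDN : commutator G = N := le_antisymm (commutator_le_of_sup_zpowers N x hNx) hND
  have haux := zmin_simple_aux x hx hiso hK N hNmin hNx
  rw [hDN]
  haveI hNnt : Nontrivial ↥N := (Subgroup.nontrivial_iff_ne_bot N).mpr hN1
  refine ⟨?_, ?_, hNx⟩
  · refine { exists_pair_ne := hNnt.exists_pair_ne, eq_bot_or_eq_top_of_normal := ?_ }
    intro H hH
    by_cases hHb : H = ⊥
    · left; exact hHb
    right
    have h1 : H.map N.subtype = N := by
      apply haux
      · exact Subgroup.map_subtype_le H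
      · rwa [Ne, Subgroup.map_eq_bot_iff_of_injective _ (Subgroup.subtype_injective _)]
      · rintro n hn t ⟨t', ht', rfl⟩
        exact ⟨⟨n, hn⟩ * t' * ⟨n, hn⟩⁻¹, hH.conj_mem t' ht' ⟨n, hn⟩, by simp⟩
    rw [eq_top_iff]
    intro y _
    have h2 : (y : G) ∈ H.map N.subtype := by rw [h1]; exact y.2
    obtain ⟨y', hy', hyy⟩ := h2
    have h3 : y' = y := Subtype.ext hyy
    rwa [← h3]
  · intro hab
    obtain ⟨q, hq, hqd⟩ := Nat.exists_prime_and_dvd (n := Nat.card N) (by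
      intro h1; exact hN1 (Subgroup.card_eq_one.mp h1))
    haveI := Fact.mk hq
    obtain ⟨z, hz⟩ := exists_prime_orderOf_dvd_card' q hqd
    have hzN : Subgroup.zpowers (z : G) = N := by
      apply haux
      · rw [Subgroup.zpowers_le]; exact z.2
      · intro h
        have h1 : (z : G) = 1 := Subgroup.zpowers_eq_bot.mp h
        have hz1 : z = 1 := Subtype.ext h1
        rw [hz1, orderOf_one] at hz
        exact hq.ne_one hz.symm
      · intro n hn t ht
        have ht' : t ∈ N := (Subgroup.zpowers_le.mpr z.2) ht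
        have h1 : n * t = t * n := comm_of_isMulCommutative N hab hn ht'
        rw [h1, mul_inv_cancel_right]; exact ht
    have hcard : Nat.card N = q := by
      rw [← hzN, Nat.card_zpowers, Subgroup.orderOf_coe]; exact hz
    by_cases hqp : q = p
    · have hNp : IsPGroup p ↥N := IsPGroup.of_card (n := 1) (by rw [hcard, hqp, pow_one])
      have hxp : IsPGroup p ↥(Subgroup.zpowers x) :=
        isPGroup_zpowers_of_orderOf x 1 (by rw [hx, pow_one])
      have hG : IsPGroup p ↥(N ⊔ Subgroup.zpowers x : Subgroup G) :=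
        IsPGroup.to_sup_of_normal_left hNp hxp
      have hc := isolated_central hiso _ hG (Subgroup.mem_sup_right (Subgroup.mem_zpowers x))
      apply hnz
      intro g
      have h1 := hc g (by rw [hNx]; trivial)
      have h2 : g * x * g⁻¹ * x⁻¹ = 1 := by rw [h1]; group
      rw [h2]; exact Subgroup.one_mem _
    · apply hN1
      rw [← le_bot_iff, ← hK]
      apply le_pPrimeCore' hNn
      rw [hcard]
      exact (Nat.coprime_primes hq Fact.out).mpr hqp

end Cfsg.Agent.Helper17
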