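import Mathlib
import Cfsg.Prelude.Def_IsolatedElements
import Cfsg.Agent.Helper17.Basic
import Cfsg.Agent.Helper17.Isolated
import Cfsg.Agent.Helper17.PPrimeCore
import Cfsg.Agent.Helper17.ZStarMin
import Cfsg.Agent.Helper1.Coprime2

set_option autoImplicit false

namespace Cfsg.Agent.Helper17

theorem card_le_of_isPGroup_le {Γ : Type*} [Group Γ] [Finite Γ] {q : ℕ} [hq : Fact q.Prime]
    {R L : Subgroup Γ} (hR : IsPGroup q R) (hRL : R ≤ L) :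
    Nat.card R ≤ q ^ (Nat.card L).factorization q := by
  obtain ⟨m, hm⟩ := IsPGroup.iff_card.mp hR
  have h1 : Nat.card R ∣ Nat.card L := Subgroup.card_dvd_of_le hRL
  rw [hm] at h1 ⊢
  exact Nat.pow_le_pow_right hq.out.pos
    ((hq.out.pow_dvd_iff_le_factorization Nat.card_pos.ne').mp h1)

theorem isolated_sylow_conj {G : Type*} [Group G] [Finite G] {p : ℕ} [Fact p.Prime] (x : G)
    (hx : orderOf x = p) (hiso : Cfsg.IsIsolated x) (q : ℕ) [Fact q.Prime] (S₁ S₂ : Sylow q G)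
    (h1 : x ∈ Subgroup.normalizer ((S₁ : Subgroup G) : Set G))
    (h2 : x ∈ Subgroup.normalizer ((S₂ : Subgroup G) : Set G)) :
    ∃ c ∈ Subgroup.centralizer ({x} : Set G),
      (S₁ : Subgroup G).map (MulAut.conj c).toMonoidHom = (S₂ : Subgroup G) := by
  obtain ⟨g, hg⟩ := MulAction.exists_smul_eq G S₁ S₂
  have hg' : (S₁ : Subgroup G).map (MulAut.conj g).toMonoidHom = (S₂ : Subgroup G) := by
    rw [← hg, sylow_smul_coe]
  have h3 : g⁻¹ * x * g⁻¹⁻¹ ∈ Subgroup.normalizer ((S₁ : Subgroup G) : Set G) := by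
    apply Subgroup.mem_normalizer_fintype
    intro n hn
    have h4 : g * n * g⁻¹ ∈ (S₂ : Subgroup G) := by
      rw [← hg']; exact conj_mem_map_conj _ g hn
    have h5 : x * (g * n * g⁻¹) * x⁻¹ ∈ (S₂ : Subgroup G) :=
      (Subgroup.mem_normalizer_iff.mp h2 _).mp h4
    rw [← hg', mem_map_conj] at h5
    have e : g⁻¹ * x * g⁻¹⁻¹ * n * (g⁻¹ * x * g⁻¹⁻¹)⁻¹ = g⁻¹ * (x * (g * n * g⁻¹) * x⁻¹) * g := by
      group
    rw [e]; exact h5
  obtain ⟨n, hn, hgn⟩ := isolated_conj 1 (by rw [hx, pow_one]) hiso _ h1 g⁻¹ h3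
  refine ⟨g * n, ?_, ?_⟩
  · rw [Subgroup.mem_centralizer_iff]
    intro y hy
    rw [Set.mem_singleton_iff] at hy
    subst hy
    have h6 : g * (g⁻¹ * y * g⁻¹⁻¹) * n = g * (n * y * n⁻¹) * n := by rw [hgn]
    simpa [mul_assoc] using h6
  · rw [← map_conj_map_conj, map_conj_eq_of_mem_normalizer _ hn, hg']

theorem zmin_max_inv_sylow {G : Type*} [Group G] [Finite G] {p : ℕ} [Fact p.Prime] (x : G)
    (hx : orderOf x = p) (hiso : Cfsg.IsIsolated x)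
    (hmin : ∀ (H : Subgroup G) (hxH : x ∈ H), H ≠ ⊤ → Cfsg.InZStar p (⟨x, hxH⟩ : ↥H))
    (hK : Cfsg.pPrimeCore p G = ⊥) (q : ℕ) [hq : Fact q.Prime]
    (Q : Subgroup G) (hQ : IsPGroup q ↥Q) (hxQ : x ∈ Subgroup.normalizer (Q : Set G))
    (hmax : ∀ R : Subgroup G, IsPGroup q ↥R → x ∈ Subgroup.normalizer (R : Set G) → Q ≤ R →
      R = Q) :
    Q = ⊥ ∨ ∃ S : Sylow q G, (S : Subgroup G) = Q := by
  classical
  by_cases hqp : q = p
  · subst hqp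
    right
    have hR : IsPGroup q ↥(Subgroup.zpowers x ⊔ Q : Subgroup G) :=
      IsPGroup.to_sup_of_normal_right' (isPGroup_zpowers_of_orderOf x 1 (by rw [hx, pow_one])) hQ
        (Subgroup.zpowers_le.mpr hxQ)
    obtain ⟨P, hP⟩ := hR.exists_le_sylow
    have hxP : x ∈ (P : Subgroup G) := hP (Subgroup.mem_sup_left (Subgroup.mem_zpowers x))
    exact ⟨P, hmax P P.isPGroup' (Subgroup.le_normalizer hxP) (le_sup_right.trans hP)⟩
  by_cases hQb : Q = ⊥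
  · left; exact hQb
  right
  obtain ⟨S, hQS⟩ := hQ.exists_le_sylow
  by_cases hSQ : (S : Subgroup G) = Q
  · exact ⟨S, hSQ⟩
  exfalso
  obtain ⟨y, hyS, hyQ, hyN⟩ := exists_normalizer_mem_not_mem Q (S : Subgroup G) S.isPGroup' hQS
    (fun h => hSQ h.symm)
  have hHtop : Subgroup.normalizer (Q : Set G) ≠ ⊤ := by
    intro h
    have hQn : Q.Normal := Subgroup.normalizer_eq_top_iff.mp h
    have hcop : (Nat.card Q).Coprime p := by
      obtain ⟨m, hm⟩ := IsPGroup.iff_card.mp hQ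
      rw [hm]
      exact Nat.Coprime.pow_left m ((Nat.coprime_primes hq.out Fact.out).mpr hqp)
    have h1 := le_pPrimeCore' hQn hcop
    rw [hK, le_bot_iff] at h1
    exact hQb h1
  have hz := hmin _ hxQ hHtop
  generalize hHdef : Subgroup.normalizer (Q : Set G) = H at hxQ hyN hz hHtop
  have hQleH : Q ≤ H := by rw [← hHdef]; exact Subgroup.le_normalizer
  haveI hQHn : (Q.subgroupOf H).Normal := by
    subst hHdef; exact Subgroup.normal_in_normalizer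
  have hQHp : IsPGroup q ↥(Q.subgroupOf H) := hQ.comap_subtype
  haveI hKHn : (Cfsg.pPrimeCore p ↥H).Normal := pPrimeCore_normal' p _
  obtain ⟨k, hk⟩ := (IsPGroup.iff_orderOf.mp S.isPGroup') ⟨y, hyS⟩
  have hyo : orderOf (⟨y, hyN⟩ : ↥H) = q ^ k := by
    rw [Subgroup.orderOf_mk]; rw [Subgroup.orderOf_mk] at hk; exact hk
  have hS'p : IsPGroup q ↥(Q.subgroupOf H ⊔ Subgroup.zpowers (⟨y, hyN⟩ : ↥H) : Subgroup ↥H) :=
    IsPGroup.to_sup_of_normal_left hQHp (isPGroup_zpowers_of_orderOf _ k hyo)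
  have hLdvd := card_sup_dvd_mul
    (Q.subgroupOf H ⊔ Subgroup.zpowers (⟨y, hyN⟩ : ↥H) : Subgroup ↥H) (Cfsg.pPrimeCore p ↥H)
  have hLcop : (Nat.card ↥((Q.subgroupOf H ⊔ Subgroup.zpowers (⟨y, hyN⟩ : ↥H)) ⊔
      Cfsg.pPrimeCore p ↥H : Subgroup ↥H)).Coprime p := by
    apply Nat.Coprime.coprime_dvd_left hLdvd
    apply Nat.Coprime.mul_left
    · obtain ⟨m, hm⟩ := IsPGroup.iff_card.mp hS'p
      rw [hm]
      exact Nat.Coprime.pow_left m ((Nat.coprime_primes hq.out Fact.out).mpr hqp)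
    · exact pPrimeCore_card_coprime p
  have hxL : (⟨x, hxQ⟩ : ↥H) ∈ Subgroup.normalizer
      (((Q.subgroupOf H ⊔ Subgroup.zpowers (⟨y, hyN⟩ : ↥H)) ⊔
      Cfsg.pPrimeCore p ↥H : Subgroup ↥H) : Set ↥H) := by
    apply Subgroup.mem_normalizer_fintype
    intro l hl
    have h1 := hz l
    have e : (⟨x, hxQ⟩ : ↥H) * l * (⟨x, hxQ⟩ : ↥H)⁻¹
        = (l * (⟨x, hxQ⟩ : ↥H) * l⁻¹ * (⟨x, hxQ⟩ : ↥H)⁻¹)⁻¹ * l := by group
    rw [e]
    exact Subgroup.mul_mem _ (Subgroup.mem_sup_right (Subgroup.inv_mem _ h1)) hl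
  have hAcard : Nat.card ↥(Subgroup.zpowers (⟨x, hxQ⟩ : ↥H)) = p := by
    rw [Nat.card_zpowers, Subgroup.orderOf_mk]; exact hx
  obtain ⟨TH, hTL, hTcard, hAT⟩ := Cfsg.Agent.Helper1.inv_sylow_exists
    (Subgroup.zpowers (⟨x, hxQ⟩ : ↥H))
    ((Q.subgroupOf H ⊔ Subgroup.zpowers (⟨y, hyN⟩ : ↥H)) ⊔ Cfsg.pPrimeCore p ↥H : Subgroup ↥H)
    (Subgroup.zpowers_le.mpr hxL) (by rw [hAcard]; exact hLcop.symm)
    (Or.inl inferInstance) q
  have hTp : IsPGroup q ↥TH := IsPGroup.of_card hTcard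
  have hQT : Q.subgroupOf H ≤ TH := by
    have h1 : IsPGroup q ↥(Q.subgroupOf H ⊔ TH : Subgroup ↥H) :=
      IsPGroup.to_sup_of_normal_left hQHp hTp
    have h2 : Q.subgroupOf H ⊔ TH ≤ ((Q.subgroupOf H ⊔ Subgroup.zpowers (⟨y, hyN⟩ : ↥H)) ⊔
        Cfsg.pPrimeCore p ↥H : Subgroup ↥H) :=
      sup_le (le_sup_left.trans le_sup_left) hTL
    have h3 := card_le_of_isPGroup_le h1 h2
    rw [← hTcard] at h3
    have h4 : TH = Q.subgroupOf H ⊔ TH := Subgroup.eq_of_le_of_card_ge le_sup_right h3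
    rw [h4]; exact le_sup_left
  have hTq : IsPGroup q ↥(TH.map H.subtype) := hTp.map _
  have hxT : x ∈ Subgroup.normalizer ((TH.map H.subtype : Subgroup G) : Set G) :=
    Cfsg.Agent.Helper1.map_subtype_mem_normalizer H TH ⟨x, hxQ⟩ (hAT (Subgroup.mem_zpowers _))
  have hQleT : Q ≤ TH.map H.subtype := by
    have h1 : (Q.subgroupOf H).map H.subtype ≤ TH.map H.subtype := Subgroup.map_mono hQT
    rwa [Subgroup.map_subgroupOf_eq_of_le hQleH] at h1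
  have hTQ := hmax _ hTq hxT hQleT
  have hTHQH : TH ≤ Q.subgroupOf H := by
    intro z hz
    rw [Subgroup.mem_subgroupOf, ← hTQ]
    exact ⟨z, hz, rfl⟩
  have h5 : Nat.card ↥(Q.subgroupOf H ⊔ Subgroup.zpowers (⟨y, hyN⟩ : ↥H) : Subgroup ↥H)
      ≤ Nat.card ↥TH := by
    have h := card_le_of_isPGroup_le hS'p
      (le_sup_left : (Q.subgroupOf H ⊔ Subgroup.zpowers (⟨y, hyN⟩ : ↥H) : Subgroup ↥H) ≤
        ((Q.subgroupOf H ⊔ Subgroup.zpowers (⟨y, hyN⟩ : ↥H)) ⊔ Cfsg.pPrimeCore p ↥H))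
    rwa [← hTcard] at h
  have h6 : Q.subgroupOf H = Q.subgroupOf H ⊔ Subgroup.zpowers (⟨y, hyN⟩ : ↥H) :=
    Subgroup.eq_of_le_of_card_ge le_sup_left (h5.trans (Subgroup.card_le_of_le hTHQH))
  have h7 : (⟨y, hyN⟩ : ↥H) ∈ Q.subgroupOf H := by
    rw [h6]; exact Subgroup.mem_sup_right (Subgroup.mem_zpowers _)
  exact hyQ (Subgroup.mem_subgroupOf.mp h7)

theorem zmin_inv_sylow_main {G : Type*} [Group G] [Finite G] {p : ℕ} [Fact p.Prime] (x : G)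
    (hx : orderOf x = p) (hiso : Cfsg.IsIsolated x) (hnz : ¬ Cfsg.InZStar p x)
    (hmin : ∀ (H : Subgroup G) (hxH : x ∈ H), H ≠ ⊤ → Cfsg.InZStar p (⟨x, hxH⟩ : ↥H))
    (hquot : ∀ (N : Subgroup G) [N.Normal], N ≠ ⊥ → Cfsg.InZStar p (QuotientGroup.mk x : G ⧸ N))
    (q : ℕ) [Fact q.Prime] :
    (∀ Q : Subgroup G, IsPGroup q ↥Q → x ∈ Subgroup.normalizer (Q : Set G) →
      (∀ R : Subgroup G, IsPGroup q ↥R → x ∈ Subgroup.normalizer (R : Set G) → Q ≤ R → R = Q) →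
      Q = ⊥ ∨ ∃ S : Sylow q G, (S : Subgroup G) = Q) ∧
    (∀ S₁ S₂ : Sylow q G, x ∈ Subgroup.normalizer ((S₁ : Subgroup G) : Set G) →
      x ∈ Subgroup.normalizer ((S₂ : Subgroup G) : Set G) →
      ∃ c ∈ Subgroup.centralizer ({x} : Set G),
        (S₁ : Subgroup G).map (MulAut.conj c).toMonoidHom = (S₂ : Subgroup G)) := by
  have hK := zmin_core_eq_bot x hnz hquot
  exact ⟨fun Q hQ hxQ hmax => zmin_max_inv_sylow x hx hiso hmin hK q Q hQ hxQ hmax,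
    fun S₁ S₂ h1 h2 => isolated_sylow_conj x hx hiso q S₁ S₂ h1 h2⟩

end Cfsg.Agent.Helper17
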